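import Groth.Agent.BunMod.K429.ThetaSec
import Groth.Agent.CurvesB.HZero
import Groth.Agent.Fdesc.LocGenPullback
import Groth.Agent.Fano.K837.StPull
import Groth.Agent.Dix.CastLocal

/-!
# Values of global sections of an invertible module at points with values in local rings

`M` a `k`-scheme, `A` a module on `M`, `R` a `k`-algebra, `x : Spec R ⟶ M` over `k`.

* `H0 M A`        : `H⁰(M, A)` with its `k`-structure, `toSec : H0 M A ≃+ Γ(A, ⊤)`.
* `IsVal A x v`   : `v : H⁰(M, A) → R` is the value at `x` for some generator of `x^* A`.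
* `exists_val`, `IsVal.comp`, `IsVal.unique`, `IsVal.ne_zero_iff`, `IsVal.eq_zero`.
-/

set_option autoImplicit false
universe u

open CategoryTheory CategoryTheory.Limits AlgebraicGeometry TopologicalSpace

namespace K429.Val

open Groth.Agent Groth.Agent.Fdesc.LocGen

variable {k : Type u} [Field k]

/-- `Spec A` over `k`. -/
noncomputable abbrev SpA (k : Type u) [Field k] (A : Type u) [CommRing A] [Algebra k A] :
    Over (Spec (CommRingCat.of k)) :=
  Over.mk (Spec.map (CommRingCat.ofHom (algebraMap k A)))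

/-- The morphism of spectra of a homomorphism of algebras. -/
noncomputable abbrev mapA {A B : Type u} [CommRing A] [Algebra k A] [CommRing B] [Algebra k B] (ρ : A →ₐ[k] B) :
    SpA k B ⟶ SpA k A :=
  Over.homMk (Spec.map (CommRingCat.ofHom ρ.toRingHom)) (by
    show Spec.map _ ≫ Spec.map _ = Spec.map _
    rw [← Spec.map_comp, ← CommRingCat.ofHom_comp]
    congr 2
    exact ρ.comp_algebraMap)

/-- Elements of `A` as functions on `Spec A`. -/
noncomputable def fnR (k : Type u) [Field k] {A : Type u} [CommRing A] [Algebra k A] : A →+* Γ((SpA k A).left, ⊤) :=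
  (Scheme.ΓSpecIso (CommRingCat.of A)).inv.hom

theorem fnR_bijective {A : Type u} [CommRing A] [Algebra k A] : Function.Bijective (fnR k : A →+* _) :=
  (Scheme.ΓSpecIso (CommRingCat.of A)).symm.commRingCatIsoToRingEquiv.bijective

/-- `fnR` as a ring isomorphism. -/
noncomputable def fnE (k : Type u) [Field k] (A : Type u) [CommRing A] [Algebra k A] : A ≃+* Γ((SpA k A).left, ⊤) :=
  (Scheme.ΓSpecIso (CommRingCat.of A)).symm.commRingCatIsoToRingEquiv

theorem fnE_apply {A : Type u} [CommRing A] [Algebra k A] (a : A) : fnE k A a = fnR k a := rfl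

theorem appTop_fnR {A B : Type u} [CommRing A] [Algebra k A] [CommRing B] [Algebra k B] (ρ : A →ₐ[k] B) (a : A) :
    (mapA ρ).left.appTop (fnR k a) = fnR k (ρ a) := by
  have h := Scheme.ΓSpecIso_inv_naturality (CommRingCat.ofHom ρ.toRingHom)
  exact (congr($h a)).symm

/-- `H⁰(M, A)`. -/
def H0 (M : Over (Spec (CommRingCat.of k))) (A : M.left.Modules) : Type u := Coh.HH M.left A 0

noncomputable instance (M : Over (Spec (CommRingCat.of k))) (A : M.left.Modules) : AddCommGroup (H0 M A) :=
  inferInstanceAs (AddCommGroup (Coh.HH M.left A 0))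

noncomputable instance (M : Over (Spec (CommRingCat.of k))) (A : M.left.Modules) : Module k (H0 M A) :=
  @Coh.moduleOver k _ M.left ⟨M.hom⟩ A 0

theorem finrank_H0 (M : Over (Spec (CommRingCat.of k))) (A : M.left.Modules) :
    Module.finrank k (H0 M A) = @Module.finrank k (Coh.HH M.left A 0) _ _ (@Coh.moduleOver k _ M.left ⟨M.hom⟩ A 0) :=
  rfl

/-- Elements of `H⁰` as sections. -/
noncomputable def toSec {M : Over (Spec (CommRingCat.of k))} {A : M.left.Modules} : H0 M A ≃+ Γ(A, ⊤) :=
  CurvesB.HZero.equivAdd A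

/-- Scalars as functions. -/
noncomputable def scal {k : Type u} [Field k] (M : Over (Spec (CommRingCat.of k))) : k →+* Γ(M.left, ⊤) :=
  @CurvesB.HZero.gl k _ M.left ⟨M.hom⟩

theorem toSec_smul {M : Over (Spec (CommRingCat.of k))} {A : M.left.Modules} (c : k) (s : H0 M A) :
    toSec (c • s) = scal M c • toSec s :=
  letI : M.left.Over (Spec (CommRingCat.of k)) := ⟨M.hom⟩
  CurvesB.HZero.equivAdd_smul_over A c s

theorem appTop_scal {M N : Over (Spec (CommRingCat.of k))} (f : N ⟶ M) (c : k) :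
    f.left.appTop (scal M c) = scal N c := by
  have h2 : f.left ≫ M.hom = N.hom := Over.w f
  show f.left.appTop (Coh.toGlobal M.hom c) = Coh.toGlobal N.hom c
  rw [← h2]
  change _ = ((f.left ≫ M.hom).appTop).hom _
  rw [Scheme.Hom.comp_appTop]
  rfl

theorem scal_SpA {A : Type u} [CommRing A] [Algebra k A] (c : k) : scal (SpA k A) c = fnR k (algebraMap k A c) := by
  have h := Scheme.ΓSpecIso_inv_naturality (CommRingCat.ofHom (algebraMap k A))
  exact (congr($h c)).symm

/-- `v` is the value at `x`. -/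
def IsVal {M : Over (Spec (CommRingCat.of k))} (A : M.left.Modules) {R : Type u} [CommRing R] [Algebra k R]
    (x : SpA k R ⟶ M) (v : H0 M A →ₗ[k] R) : Prop :=
  ∃ e : Γ((Scheme.Modules.pullback x.left).obj A, ⊤), IsGen e ∧
    ∀ s : H0 M A, pullTop x.left (toSec s) = fnR k (v s) • e

section

variable {M : Over (Spec (CommRingCat.of k))} {A : M.left.Modules} {R : Type u} [CommRing R] [Algebra k R]

/-- The value for a given generator. -/
theorem exists_val_of_gen (x : SpA k R ⟶ M) {e : Γ((Scheme.Modules.pullback x.left).obj A, ⊤)} (he : IsGen e) :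
    ∃ v : H0 M A →ₗ[k] R, ∀ s : H0 M A, pullTop x.left (toSec s) = fnR k (v s) • e := by
  have h1 : ∀ s : H0 M A, ∃ r : R, pullTop x.left (toSec s) = fnR k r • e := fun s => by
    obtain ⟨a, ha⟩ := he.exists_eq (pullTop x.left (toSec s))
    obtain ⟨r, rfl⟩ := (fnR_bijective (k := k) (A := R)).2 a
    exact ⟨r, ha⟩
  choose v hv using h1
  have hinj : ∀ a b : R, fnR k a • e = fnR k b • e → a = b := fun a b h =>
    (fnR_bijective (k := k) (A := R)).1 (he.ext h)
  refine ⟨⟨⟨v, fun s t => ?_⟩, fun c s => ?_⟩, hv⟩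
  · apply hinj
    rw [← hv, map_add, map_add (fnR k), add_smul, ← hv, ← hv]
    exact pullSec_add x.left (toSec s) (toSec t)
  · apply hinj
    simp only [RingHom.id_apply]
    rw [← hv, toSec_smul, Algebra.smul_def, map_mul, mul_smul, ← hv, ← scal_SpA, ← appTop_scal x c]
    exact pullSec_smul x.left (scal M c) (toSec s)

/-- A generator of an invertible module on a local scheme. -/
theorem exists_gen [IsLocalRing R] {L : (SpA k R).left.Modules} (hL : PicF.IsInvertible L) :
    ∃ e : Γ(L, ⊤), IsGen e := by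
  obtain ⟨U, e, hx, he⟩ := (isInvertible_iff L).1 hL (IsLocalRing.closedPoint R)
  have hU : U = ⊤ := by
    rw [eq_top_iff]
    intro y _
    exact (IsLocalRing.specializes_closedPoint (R := R) y).mem_open U.2 hx
  subst hU
  exact ⟨e, he⟩

theorem exists_val [IsLocalRing R] (hA : PicF.IsInvertible A) (x : SpA k R ⟶ M) : ∃ v, IsVal A x v := by
  obtain ⟨e, he⟩ := exists_gen (k := k) (R := R) (isInvertible_pullback x.left hA)
  obtain ⟨v, hv⟩ := exists_val_of_gen x he
  exact ⟨v, e, he, hv⟩

/-- Values are unique up to units. -/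
theorem IsVal.unique {x : SpA k R ⟶ M} {v v' : H0 M A →ₗ[k] R} (h : IsVal A x v) (h' : IsVal A x v') :
    ∃ u : Rˣ, ∀ s, v' s = u * v s := by
  obtain ⟨e, he, hv⟩ := h
  obtain ⟨e', he', hv'⟩ := h'
  obtain ⟨w, hw, hw'⟩ := he'.exists_unit he
  obtain ⟨u, rfl⟩ := (fnR_bijective (k := k) (A := R)).2 w
  have hu : IsUnit u := by
    have := hw.map (fnE k R).symm
    rwa [← fnE_apply, RingEquiv.symm_apply_apply] at this
  obtain ⟨u, rfl⟩ := hu
  refine ⟨u, fun s => (fnR_bijective (k := k) (A := R)).1 (he'.ext ?_)⟩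
  rw [← hv', hv, hw', ← mul_smul, map_mul, mul_comm]

/-- A unit multiple of a value is a value. -/
theorem IsVal.smul {x : SpA k R ⟶ M} {v : H0 M A →ₗ[k] R} (h : IsVal A x v) (u : Rˣ) {v' : H0 M A →ₗ[k] R}
    (hv' : ∀ s, v' s = u * v s) : IsVal A x v' := by
  obtain ⟨e, he, hv⟩ := h
  refine ⟨fnR k ((u⁻¹ : Rˣ) : R) • e, ?_, fun s => ?_⟩
  · exact he.unit_smul ((u⁻¹).isUnit.map (fnR k))
  · rw [hv, hv', ← mul_smul, ← map_mul, mul_comm (u : R), mul_assoc, Units.mul_inv, mul_one]

theorem IsVal.comp {R' : Type u} [CommRing R'] [Algebra k R'] {x : SpA k R ⟶ M} {v : H0 M A →ₗ[k] R}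
    (h : IsVal A x v) (ρ : R →ₐ[k] R') : IsVal A (mapA ρ ≫ x) (ρ.toLinearMap ∘ₗ v) := by
  obtain ⟨e, he, hv⟩ := h
  refine ⟨((Scheme.Modules.pullbackComp (mapA ρ).left x.left).hom.app A).app ⊤ (pullTop (mapA ρ).left e), ?_,
    fun s => ?_⟩
  · exact (he.pullTop (mapA ρ).left).app _
  · have h1 := K837.StPull.pullTop_comp' (mapA ρ).left x.left (toSec s)
    have h2 : pullTop (mapA ρ).left (pullTop x.left (toSec s)) = fnR k (ρ (v s)) • pullTop (mapA ρ).left e := by
      rw [hv, ← appTop_fnR ρ]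
      exact pullSec_smul (mapA ρ).left (fnR k (v s)) e
    refine h1.symm.trans ?_
    rw [h2]
    exact Scheme.Modules.Hom.app_smul _ _ _

/-- Values only depend on the morphism. -/
theorem IsVal.congr {x x' : SpA k R ⟶ M} (h : x = x') {v : H0 M A →ₗ[k] R} (hv : IsVal A x v) : IsVal A x' v := by
  subst h
  exact hv

end

section field

variable {M : Over (Spec (CommRingCat.of k))} {A : M.left.Modules} {K : Type u} [Field K] [Algebra k K]

/-- The point of the spectrum of a field. -/
noncomputable abbrev pt0 (k K : Type u) [Field k] [Field K] [Algebra k K] : (SpA k K).left := IsLocalRing.closedPoint K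

/-- A section does not vanish at a point iff its value is not zero. -/
theorem IsVal.ne_zero_iff (hA : PicF.IsInvertible A) {x : SpA k K ⟶ M} {v : H0 M A →ₗ[k] K} (h : IsVal A x v)
    (s : H0 M A) : v s ≠ 0 ↔ x.left (pt0 k K) ∈ CohB1.genLocus A (homOf (toSec s)) := by
  obtain ⟨e, he, hv⟩ := h
  have h1 := K390.PnSec.genLocus_pullTop x.left hA (toSec s)
  have h2 : x.left (pt0 k K) ∈ CohB1.genLocus A (homOf (toSec s)) ↔
      pt0 k K ∈ CohB1.genLocus _ (homOf (pullTop x.left (toSec s))) := by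
    rw [h1]
    rfl
  have htop : ∀ U : (SpA k K).left.Opens, pt0 k K ∈ U ↔ U = ⊤ := fun U => by
    refine ⟨fun h => ?_, fun h => h ▸ trivial⟩
    rw [eq_top_iff]
    intro y _
    exact (IsLocalRing.specializes_closedPoint (R := K) y).mem_open U.2 h
  rw [h2, htop, ← top_le_iff, le_genLocus_iff, sec_homOf, hv]
  have h3 : res _ (le_refl (⊤ : (SpA k K).left.Opens)) (fnR k (v s) • e) = fnR k (v s) • e := res_refl _ _
  rw [h3, he.smul_iff]
  constructor
  · intro h0
    exact (isUnit_iff_ne_zero.2 h0).map (fnR k)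
  · intro h0 h1
    rw [h1, map_zero] at h0
    have h4 := h0.map (fnE k K).symm
    rw [map_zero] at h4
    exact not_isUnit_zero h4

/-- **Density.** A section whose values at a dense family of points vanish is zero. -/
theorem eq_zero_of_dense [IsReduced M.left] (hA : PicF.IsInvertible A) {ι : Type*} {L : ι → Type u}
    [∀ i, Field (L i)] [∀ i, Algebra k (L i)] (x : ∀ i, SpA k (L i) ⟶ M) (v : ∀ i, H0 M A →ₗ[k] L i)
    (h : ∀ i, IsVal A (x i) (v i)) (hd : ∀ U : M.left.Opens, (U : Set M.left).Nonempty →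
      ∃ i, (x i).left (pt0 k (L i)) ∈ U) (s : H0 M A) (hs : ∀ i, v i s = 0) : s = 0 := by
  have h3 : CohB1.genLocus A (homOf (toSec s)) = ⊥ := by
    by_contra hne
    have hne' : ((CohB1.genLocus A (homOf (toSec s)) : M.left.Opens) : Set M.left).Nonempty := by
      rw [Set.nonempty_iff_ne_empty]
      intro h0
      exact hne (TopologicalSpace.Opens.ext h0)
    obtain ⟨i, hi⟩ := hd _ hne'
    exact ((h i).ne_zero_iff hA s).2 hi (hs i)
  have h4 := K518.Sec.eq_zero_of_genLocus_eq_bot hA _ h3
  have h5 : sec (homOf (toSec s)) ⊤ = sec (homOf (0 : Γ(A, ⊤))) ⊤ := by rw [h4, K429.ThetaSec.homOf_zero]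
  rw [sec_homOf, res_refl, sec_homOf, res_refl] at h5
  exact toSec.injective (h5.trans (map_zero toSec).symm)

/-- A section whose value at the generic point vanishes is zero. -/
theorem IsVal.eq_zero [IsIntegral M.left] (hA : PicF.IsInvertible A) {x : SpA k K ⟶ M} {v : H0 M A →ₗ[k] K}
    (h : IsVal A x v) (hx : x.left (pt0 k K) = genericPoint M.left) (s : H0 M A) (hs : v s = 0) : s = 0 := by
  refine eq_zero_of_dense (ι := Unit) (L := fun _ => K) hA (fun _ => x) (fun _ => v) (fun _ => h) (fun U hU => ?_) s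
    (fun _ => hs)
  refine ⟨(), ?_⟩
  rw [hx]
  exact (genericPoint_spec M.left).mem_open_set_iff U.2 |>.2 (by simpa using hU)

end field

end K429.Val
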