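import Mathlib.CategoryTheory.Preadditive.Biproducts
import Mathlib.CategoryTheory.Limits.Shapes.Kernels
import Mathlib.CategoryTheory.Abelian.Basic
import Mathlib.LinearAlgebra.FiniteDimensional.Lemmas
import Mathlib.LinearAlgebra.Dimension.Finrank

/-!
# Kernels of "constant matrices" `N^v ⟶ N^w`

`C` abelian, `N : C`, `ρ : k →+* End N` surjective (`k` a field).  Every morphism `∐ N ⟶ ∐ N` (finite coproducts)
is given by a matrix over `k`; its kernel is again a finite coproduct of copies of `N`.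
-/

set_option autoImplicit false

universe v u w

open CategoryTheory CategoryTheory.Limits

namespace K429.ConstKer

variable {C : Type u} [Category.{v} C] [Preadditive C] [HasFiniteBiproducts C]
variable {k : Type w} [Field k] {N : C} (ρ : k →+* End N)

noncomputable section

/-- The morphism of a linear map `k^a → k^b`. -/
def mor {a b : ℕ} (A : (Fin a → k) →ₗ[k] (Fin b → k)) : (⨁ fun _ : Fin a => N) ⟶ (⨁ fun _ : Fin b => N) :=
  biproduct.matrix fun i j => (ρ (A (Pi.single i 1) j) : N ⟶ N)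

@[reassoc]
lemma ι_mor_π {a b : ℕ} (A : (Fin a → k) →ₗ[k] (Fin b → k)) (i : Fin a) (j : Fin b) :
    biproduct.ι (fun _ : Fin a => N) i ≫ mor ρ A ≫ biproduct.π (fun _ : Fin b => N) j =
      (ρ (A (Pi.single i 1) j) : N ⟶ N) := by
  simp [mor]

lemma mor_ext {a b : ℕ} {f g : (⨁ fun _ : Fin a => N) ⟶ (⨁ fun _ : Fin b => N)}
    (h : ∀ i j, biproduct.ι (fun _ : Fin a => N) i ≫ f ≫ biproduct.π (fun _ : Fin b => N) j =
      biproduct.ι (fun _ : Fin a => N) i ≫ g ≫ biproduct.π (fun _ : Fin b => N) j) : f = g := by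
  apply biproduct.hom_ext
  intro j
  apply biproduct.hom_ext'
  intro i
  exact h i j

lemma mor_id (a : ℕ) : mor ρ (LinearMap.id : (Fin a → k) →ₗ[k] (Fin a → k)) = 𝟙 _ := by
  apply mor_ext
  intro i j
  rw [ι_mor_π]
  by_cases h : i = j
  · subst h
    simp
  · rw [LinearMap.id_apply, Pi.single_eq_of_ne (Ne.symm h), map_zero, Category.id_comp,
      biproduct.ι_π_ne _ h]

lemma mor_comp {a b c : ℕ} (A : (Fin a → k) →ₗ[k] (Fin b → k)) (B : (Fin b → k) →ₗ[k] (Fin c → k)) :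
    mor ρ A ≫ mor ρ B = mor ρ (B ∘ₗ A) := by
  apply mor_ext
  intro i l
  rw [ι_mor_π]
  have h1 : A (Pi.single i 1) = ∑ j, (A (Pi.single i 1) j) • (Pi.single j 1 : Fin b → k) := by
    ext j
    simp [Finset.sum_apply, Pi.single_apply]
  have h2 : (B ∘ₗ A) (Pi.single i 1) l = ∑ j, A (Pi.single i 1) j * B (Pi.single j 1) l := by
    rw [LinearMap.comp_apply]
    conv_lhs => rw [h1]
    rw [map_sum, Finset.sum_apply]
    refine Finset.sum_congr rfl fun j _ => ?_
    rw [map_smul]; rfl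
  rw [h2, map_sum]
  have h3 : mor ρ A ≫ mor ρ B = ∑ j, (mor ρ A ≫ biproduct.π (fun _ : Fin b => N) j) ≫
      (biproduct.ι (fun _ : Fin b => N) j ≫ mor ρ B) := by
    have : (𝟙 (⨁ fun _ : Fin b => N)) = ∑ j, biproduct.π (fun _ : Fin b => N) j ≫ biproduct.ι (fun _ : Fin b => N) j :=
      (biproduct.total).symm
    calc mor ρ A ≫ mor ρ B = mor ρ A ≫ 𝟙 _ ≫ mor ρ B := by rw [Category.id_comp]
      _ = _ := by
        rw [this, Preadditive.sum_comp, Preadditive.comp_sum]
        simp only [Category.assoc]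
  rw [h3, Preadditive.sum_comp, Preadditive.comp_sum]
  refine Finset.sum_congr rfl fun j _ => ?_
  have e1 : biproduct.ι (fun _ : Fin a => N) i ≫
      ((mor ρ A ≫ biproduct.π (fun _ : Fin b => N) j) ≫ biproduct.ι (fun _ : Fin b => N) j ≫ mor ρ B) ≫
        biproduct.π (fun _ : Fin c => N) l =
      (biproduct.ι (fun _ : Fin a => N) i ≫ mor ρ A ≫ biproduct.π (fun _ : Fin b => N) j) ≫
        (biproduct.ι (fun _ : Fin b => N) j ≫ mor ρ B ≫ biproduct.π (fun _ : Fin c => N) l) := by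
    simp only [Category.assoc]
  rw [e1, ι_mor_π, ι_mor_π, mul_comm, map_mul]
  rfl

lemma mor_zero (a b : ℕ) : mor ρ (0 : (Fin a → k) →ₗ[k] (Fin b → k)) = 0 := by
  apply mor_ext
  intro i j
  rw [ι_mor_π]
  simp only [LinearMap.zero_apply, Pi.zero_apply, map_zero, zero_comp, comp_zero]

lemma mor_add {a b : ℕ} (A B : (Fin a → k) →ₗ[k] (Fin b → k)) : mor ρ (A + B) = mor ρ A + mor ρ B := by
  apply mor_ext
  intro i j
  rw [ι_mor_π, Preadditive.add_comp, Preadditive.comp_add, ι_mor_π, ι_mor_π, LinearMap.add_apply,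
    Pi.add_apply, map_add]

/-- Every morphism is the morphism of a matrix, if `ρ` is onto. -/
lemma exists_mor (hρ : Function.Surjective ρ) {a b : ℕ} (f : (⨁ fun _ : Fin a => N) ⟶ (⨁ fun _ : Fin b => N)) :
    ∃ A : (Fin a → k) →ₗ[k] (Fin b → k), mor ρ A = f := by
  choose m hm using fun (i : Fin a) (j : Fin b) =>
    hρ (biproduct.ι (fun _ : Fin a => N) i ≫ f ≫ biproduct.π (fun _ : Fin b => N) j)
  refine ⟨Fintype.linearCombination k (fun i => m i), ?_⟩
  apply mor_ext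
  intro i j
  rw [ι_mor_π, ← hm i j, Fintype.linearCombination_apply_single, one_smul]

/-- linear algebra: a linear map splits off its kernel. -/
lemma exists_split {a b : ℕ} (A : (Fin a → k) →ₗ[k] (Fin b → k)) :
    ∃ (n : ℕ) (I : (Fin n → k) →ₗ[k] (Fin a → k)) (R : (Fin a → k) →ₗ[k] (Fin n → k))
      (B : (Fin b → k) →ₗ[k] (Fin a → k)),
      n ≤ a ∧ (n = a → A = 0) ∧ A ∘ₗ I = 0 ∧ R ∘ₗ I = LinearMap.id ∧ I ∘ₗ R + B ∘ₗ A = LinearMap.id := by
  classical
  let e : (Fin (Module.finrank k (LinearMap.ker A)) → k) ≃ₗ[k] LinearMap.ker A :=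
    (Module.finBasis k (LinearMap.ker A)).equivFun.symm
  obtain ⟨Q, hQ⟩ := (LinearMap.ker A).exists_isCompl
  let P := (LinearMap.ker A).projectionOnto Q hQ
  let P' := Q.projectionOnto (LinearMap.ker A) hQ.symm
  -- `A` restricted to `Q` is injective
  have hinj : LinearMap.ker (A.domRestrict Q) = ⊥ := by
    rw [LinearMap.ker_eq_bot']
    intro x hx
    have h1 : (x : Fin a → k) ∈ LinearMap.ker A := hx
    have h2 : (x : Fin a → k) ∈ (LinearMap.ker A) ⊓ Q := ⟨h1, x.2⟩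
    rw [hQ.inf_eq_bot] at h2
    exact Subtype.ext h2
  obtain ⟨B₀, hB₀⟩ := (A.domRestrict Q).exists_leftInverse_of_injective hinj
  have hdec : ∀ x : Fin a → k, ((P x : LinearMap.ker A) : Fin a → k) + ((P' x : Q) : Fin a → k) = x :=
    fun x => Submodule.projection_add_projection_eq_self hQ x
  refine ⟨Module.finrank k (LinearMap.ker A), (LinearMap.ker A).subtype ∘ₗ e.toLinearMap,
    e.symm.toLinearMap ∘ₗ P, Q.subtype ∘ₗ B₀, ?_, ?_, ?_, ?_, ?_⟩
  · simpa using (LinearMap.ker A).finrank_le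
  · intro h
    have : LinearMap.ker A = ⊤ := Submodule.eq_top_of_finrank_eq (by rw [h]; simp)
    exact LinearMap.ker_eq_top.mp this
  · ext i : 1
    exact LinearMap.ext fun x => (e (LinearMap.single k (fun _ => k) i x)).2
  · apply LinearMap.ext
    intro x
    show e.symm (P (e x : Fin a → k)) = x
    have : P (e x : Fin a → k) = e x := Submodule.projectionOnto_apply_left hQ (e x)
    rw [this, LinearEquiv.symm_apply_apply]
  · apply LinearMap.ext
    intro x
    show ((e (e.symm (P x)) : LinearMap.ker A) : Fin a → k) + ((B₀ (A x) : Q) : Fin a → k) = x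
    rw [LinearEquiv.apply_symm_apply]
    have h1 : A x = A.domRestrict Q (P' x) := by
      conv_lhs => rw [← hdec x]
      rw [map_add, show A ((P x : LinearMap.ker A) : Fin a → k) = 0 from (P x).2, zero_add]
      rfl
    have h2 : B₀ (A x) = P' x := by
      rw [h1]
      exact LinearMap.congr_fun hB₀ (P' x)
    rw [h2]
    exact hdec x

/-- The kernel of a morphism `⨁ N ⟶ ⨁ N` is a `⨁ N`; if it has as many summands as the source, the morphism is
zero. -/
theorem exists_kernel_iso (hρ : Function.Surjective ρ) {a b : ℕ}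
    (f : (⨁ fun _ : Fin a => N) ⟶ (⨁ fun _ : Fin b => N)) [HasKernel f] :
    ∃ n : ℕ, n ≤ a ∧ (n = a → f = 0) ∧ Nonempty (kernel f ≅ ⨁ fun _ : Fin n => N) := by
  obtain ⟨A, rfl⟩ := exists_mor ρ hρ f
  obtain ⟨n, I, R, B, hn, h0, hAI, hRI, hsum⟩ := exists_split A
  have hRI' : mor ρ I ≫ mor ρ R = 𝟙 _ := by rw [mor_comp, hRI, mor_id]
  have hAI' : mor ρ I ≫ mor ρ A = 0 := by rw [mor_comp, hAI, mor_zero]
  have hs' : mor ρ R ≫ mor ρ I + mor ρ A ≫ mor ρ B = 𝟙 _ := by
    rw [mor_comp, mor_comp, ← mor_add, hsum, mor_id]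
  refine ⟨n, hn, fun h => by rw [h0 h, mor_zero], ⟨?_⟩⟩
  refine
    { hom := kernel.ι (mor ρ A) ≫ mor ρ R
      inv := kernel.lift (mor ρ A) (mor ρ I) hAI'
      hom_inv_id := ?_
      inv_hom_id := ?_ }
  · apply Fork.IsLimit.hom_ext (kernelIsKernel (mor ρ A))
    simp only [Fork.ofι_pt, Fork.ι_ofι, Category.assoc, kernel.lift_ι, Category.id_comp]
    calc kernel.ι (mor ρ A) ≫ mor ρ R ≫ mor ρ I
        = kernel.ι (mor ρ A) ≫ (mor ρ R ≫ mor ρ I + mor ρ A ≫ mor ρ B) := by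
          rw [Preadditive.comp_add, ← Category.assoc (kernel.ι (mor ρ A)) (mor ρ A), kernel.condition,
            zero_comp, add_zero]
      _ = kernel.ι (mor ρ A) := by rw [hs', Category.comp_id]
  · rw [kernel.lift_ι_assoc, hRI']

/-- The same with objects only isomorphic to finite coproducts. -/
theorem exists_kernel_iso' [HasFiniteCoproducts C] (hρ : Function.Surjective ρ) {a b : ℕ} {X Y : C}
    (eX : X ≅ ∐ fun _ : Fin a => N) (eY : Y ≅ ∐ fun _ : Fin b => N) (f : X ⟶ Y) [HasKernel f] :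
    ∃ n : ℕ, n ≤ a ∧ (n = a → f = 0) ∧ Nonempty (kernel f ≅ ∐ fun _ : Fin n => N) := by
  let eX' : X ≅ ⨁ fun _ : Fin a => N := eX ≪≫ (biproduct.isoCoproduct _).symm
  let eY' : Y ≅ ⨁ fun _ : Fin b => N := eY ≪≫ (biproduct.isoCoproduct _).symm
  let f' : (⨁ fun _ : Fin a => N) ⟶ ⨁ fun _ : Fin b => N := eX'.inv ≫ f ≫ eY'.hom
  have hf : f = eX'.hom ≫ f' ≫ eY'.inv := by simp [f']
  obtain ⟨A, hA⟩ := exists_mor ρ hρ f'
  obtain ⟨n, I, R, B, hn, h0, hAI, hRI, hsum⟩ := exists_split A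
  have hRI' : mor ρ I ≫ mor ρ R = 𝟙 _ := by rw [mor_comp, hRI, mor_id]
  have hAI' : mor ρ I ≫ mor ρ A = 0 := by rw [mor_comp, hAI, mor_zero]
  have hs' : mor ρ R ≫ mor ρ I + mor ρ A ≫ mor ρ B = 𝟙 _ := by
    rw [mor_comp, mor_comp, ← mor_add, hsum, mor_id]
  refine ⟨n, hn, fun h => by rw [hf, ← hA, h0 h, mor_zero, zero_comp, comp_zero], ⟨?_⟩⟩
  refine
    { hom := kernel.ι f ≫ eX'.hom ≫ mor ρ R ≫ (biproduct.isoCoproduct _).hom
      inv := (biproduct.isoCoproduct _).inv ≫ kernel.lift f (mor ρ I ≫ eX'.inv) ?_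
      hom_inv_id := ?_
      inv_hom_id := ?_ }
  · rw [hf, ← hA, Category.assoc, Iso.inv_hom_id_assoc, ← Category.assoc, hAI', zero_comp]
  · apply Fork.IsLimit.hom_ext (kernelIsKernel f)
    simp only [Fork.ofι_pt, Fork.ι_ofι, Category.assoc, kernel.lift_ι, Category.id_comp, Iso.hom_inv_id_assoc]
    have h1 : kernel.ι f ≫ eX'.hom ≫ mor ρ A = 0 := by
      have h2 : f ≫ eY'.hom = eX'.hom ≫ mor ρ A := by rw [hf, ← hA]; simp
      rw [← h2, kernel.condition_assoc, zero_comp]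
    calc kernel.ι f ≫ eX'.hom ≫ mor ρ R ≫ mor ρ I ≫ eX'.inv
        = kernel.ι f ≫ eX'.hom ≫ (mor ρ R ≫ mor ρ I + mor ρ A ≫ mor ρ B) ≫ eX'.inv := by
          rw [Preadditive.add_comp, Preadditive.comp_add, Preadditive.comp_add]
          simp only [Category.assoc]
          rw [reassoc_of% h1, zero_comp, add_zero]
      _ = kernel.ι f := by rw [hs', Category.id_comp, Iso.hom_inv_id, Category.comp_id]
  · rw [Category.assoc, kernel.lift_ι_assoc, Category.assoc, Iso.inv_hom_id_assoc, reassoc_of% hRI',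
      Iso.inv_hom_id]

end

end K429.ConstKer
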