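import Groth.Agent.ShStab.K847.SSPull
import Groth.Agent.ShStab.K846.CurveSS
import Groth.Agent.BunMod.K319.SumFam
import Groth.Agent.CurvesB.VABaseChange
import Groth.Agent.S1551
import Groth.Agent.JacVar.K533.CurveBasic
import Groth.Agent.BunMod.K757.Fam

/-!
# Constant families of semistable bundles of degree zero
-/

set_option autoImplicit false
universe u

open CategoryTheory CategoryTheory.Limits AlgebraicGeometry

namespace K429.ConstSS

open K140.BM K707.Base

variable {k : Type u} [Field k] {X : Scheme.{u}} [X.Over (Spec (CommRingCat.of k))]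
  [IsProper (X ↘ Spec (CommRingCat.of k))] [Smooth (X ↘ Spec (CommRingCat.of k))]
  [GeometricallyConnected (X ↘ Spec (CommRingCat.of k))]

/-- The base change square. -/
theorem exists_algebra {Ω : Type u} [Field Ω] (t : Spec (CommRingCat.of Ω) ⟶ B0 k) :
    ∃ _ : Algebra k Ω, Spec.map (CommRingCat.ofHom (algebraMap k Ω)) = t := by
  let φ : CommRingCat.of k ⟶ CommRingCat.of Ω := Spec.preimage t
  exact ⟨φ.hom.toAlgebra, Spec.map_preimage t⟩

theorem ssb_cst (hdim : topologicalKrullDim X = 1) {s : ℕ} (hs : 0 < s) {E₀ : X.Modules}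
    (hE₀ : FlatMod.IsFinLocFreeOfRank s E₀) (hd : Curv2.deg k X E₀ s = 0)
    (hss : ModFun.IsSlopeSemistable k X E₀ s) {Ω : Type u} [Field Ω] (t : Spec (CommRingCat.of Ω) ⟶ B0 k) :
    SSB s t ((Scheme.Modules.pullback (pullback.fst (st k X) t)).obj E₀) := by
  let _ : (PicF.XT (st k X) (Over.mk t)).Over (Spec (CommRingCat.of Ω)) := ⟨PicF.XTproj (st k X) (Over.mk t)⟩
  have hint : IsIntegral X := K533.CurveBasic.isIntegral (st k X)
  obtain ⟨alg, ht⟩ := exists_algebra t
  have H : IsPullback (pullback.fst (st k X) t) (PicF.XT (st k X) (Over.mk t) ↘ Spec (CommRingCat.of Ω))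
      (X ↘ Spec (CommRingCat.of k)) (Spec.map (CommRingCat.ofHom (algebraMap k Ω))) := by
    rw [ht]
    exact IsPullback.of_hasPullback (st k X) t
  obtain ⟨i1, i2, i3, i4, C⟩ := K319.SumFam.crv_fib hdim t
  have hr : FlatMod.IsFinLocFreeOfRank s ((Scheme.Modules.pullback (pullback.fst (st k X) t)).obj E₀) :=
    Groth.Agent.PerfB.FibreConc.isFinLocFreeOfRank_pullback _ hE₀
  refine ⟨hr, ?_, ?_⟩
  · exact (Groth.Agent.CurvesB.VABaseChange.deg_eq H E₀ (isCoh_of_rank hE₀).1 s).trans hd
  · have hk : IsProper (st k X) := ‹IsProper (X ↘ Spec (CommRingCat.of k))›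
    have : IsNoetherian X := K846.Ascent.isNoetherian_of_proper k X
    have : X.IsSeparated := by
      have h1 : IsSeparated (terminal.from X) := by
        rw [← terminal.comp_from (st k X)]
        infer_instance
      exact ⟨h1⟩
    obtain ⟨L₀, hL₀⟩ := Groth.Agent.S1551.result X hdim
    have hta : IsAffineHom (show Spec (CommRingCat.of Ω) ⟶ Spec (CommRingCat.of k) from t) := inferInstance
    have : IsAffineHom (pullback.fst (st k X) t) := MorphismProperty.pullback_fst (P := @IsAffineHom) _ _ hta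
    have hL := K846.Ascent.isAmple_pullback (pullback.fst (st k X) t) hL₀
    refine (K846.CurveSS.isSemistable_iff C hL hs hr).1 ?_
    exact (K847.SSPull.isSemistable_pull_iff H hL₀ (isCoh_of_rank hE₀)).2
      ((K846.CurveSS.isSemistable_iff (Crv.of_smooth hdim) hL₀ hs hE₀).2 hss)

/-- **Constant families are admissible.** -/
theorem ussOK_cst (hdim : topologicalKrullDim X = 1) {s : ℕ} (hs : 0 < s) {E₀ : X.Modules}
    (hE₀ : FlatMod.IsFinLocFreeOfRank s E₀) (hd : Curv2.deg k X E₀ s = 0)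
    (hss : ModFun.IsSlopeSemistable k X E₀ s) (T : Over (B0 k)) :
    BunMod.ussOK (st k X) s 0 T ((Scheme.Modules.pullback (pullback.fst (st k X) T.hom)).obj E₀) := by
  rw [K319.SumFam.ussOK_iff]
  refine ⟨Groth.Agent.PerfB.FibreConc.isFinLocFreeOfRank_pullback _ hE₀, fun Ω _ _ t => ?_⟩
  obtain ⟨e⟩ := K757.Fam.pl_cst (st k X) (Over.homMk t rfl : Over.mk (t ≫ T.hom) ⟶ T) E₀
  exact K319.SumFam.ssb_of_iso e.symm (ssb_cst hdim hs hE₀ hd hss (t ≫ T.hom))

end K429.ConstSS
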