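import Groth.Agent.BunMod.K429.ConstKer
import Groth.Agent.PerfC.FlatExact
import Groth.Agent.Fdesc.StalkExt
import Mathlib.CategoryTheory.Limits.Preserves.Shapes.Kernels

/-!
# Kernels of maps which become constant matrices after a faithfully flat pull back
-/

set_option autoImplicit false
universe u w

open CategoryTheory CategoryTheory.Limits AlgebraicGeometry

namespace K429.PullKer

variable {J J' : Scheme.{u}} (ρ : J' ⟶ J) [Flat ρ] [Surjective ρ] {k : Type w} [Field k]

/-- `ρ^* E ≅ N^v`, `ρ^* W ≅ N^w`, `k → End N` onto: the kernel of any `e : E ⟶ W` satisfies `ρ^* ker e ≅ N^n` with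
`n ≤ v`, and `n = v` only if `e = 0`. -/
theorem exists_ker {N : J'.Modules} (σ : k →+* End N) (hσ : Function.Surjective σ) {E W : J.Modules} {v w : ℕ}
    (hE : Nonempty ((Scheme.Modules.pullback ρ).obj E ≅ ∐ fun _ : Fin v => N))
    (hW : Nonempty ((Scheme.Modules.pullback ρ).obj W ≅ ∐ fun _ : Fin w => N)) (e : E ⟶ W) :
    ∃ n : ℕ, n ≤ v ∧ (n = v → e = 0) ∧
      Nonempty ((Scheme.Modules.pullback ρ).obj (kernel e) ≅ ∐ fun _ : Fin n => N) := by
  obtain ⟨eE⟩ := hE
  obtain ⟨eW⟩ := hW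
  haveI := Groth.Agent.PerfC.FlatExact.preservesFiniteLimits_pullback ρ
  haveI := Groth.Agent.Fdesc.StalkExt.faithful_pullback ρ
  haveI : HasFiniteBiproducts J'.Modules := HasFiniteBiproducts.of_hasFiniteProducts
  obtain ⟨n, hn, h0, ⟨i⟩⟩ := K429.ConstKer.exists_kernel_iso' σ hσ eE eW ((Scheme.Modules.pullback ρ).map e)
  refine ⟨n, hn, fun h => ?_, ⟨PreservesKernel.iso (Scheme.Modules.pullback ρ) e ≪≫ i⟩⟩
  apply (Scheme.Modules.pullback ρ).map_injective
  rw [h0 h, Functor.map_zero]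

/-- a section of `E` killed by `ρ^*` is zero, so if `ρ^* E = 0` then `E` has no nonzero section. -/
theorem eq_zero_of_isZero {E : J.Modules} (h : IsZero ((Scheme.Modules.pullback ρ).obj E)) {F : J.Modules}
    (s : F ⟶ E) : s = 0 := by
  haveI := Groth.Agent.Fdesc.StalkExt.faithful_pullback ρ
  apply (Scheme.Modules.pullback ρ).map_injective
  exact h.eq_of_tgt _ _

end K429.PullKer
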