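import Groth.Agent.BunMod.K429.EvalMap
import Groth.Agent.BunMod.K429.PullKer
import Groth.Agent.Fdesc.LocGenPullback

/-!
# The spanning argument, abstract form
-/

set_option autoImplicit false
universe u w

open CategoryTheory CategoryTheory.Limits AlgebraicGeometry Opposite TopologicalSpace
open AlgebraicGeometry.Scheme.Modules
open Groth.Agent.CohqA Groth.Agent.CohqA.AffineBaseChange Groth.Agent.Fdesc.LocGen

namespace K429.Core

open K429.EvalMap

variable {M J J' Y Z : Scheme.{u}} {dm : M ⟶ J} {ρ : J' ⟶ J} {q : Y ⟶ M} {p : Y ⟶ J'} (y : Z ⟶ Y)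
  {k : Type w} [Field k]

theorem core (H : IsPullback q p dm ρ) [QuasiCompact dm] [QuasiSeparated dm] [Flat ρ] [Surjective ρ]
    {F : M.Modules} (hF : Coh.IsQCoh F) {N : J'.Modules} (σ : k →+* End N) (hσ : Function.Surjective σ)
    {v w : ℕ}
    (hE : Nonempty ((Scheme.Modules.pullback ρ).obj ((pushforward dm).obj F) ≅ ∐ fun _ : Fin v => N))
    (hW : Nonempty ((Scheme.Modules.pullback ρ).obj ((pushforward ρ).obj ((pushforward p).obj
      ((pushforward y).obj ((Scheme.Modules.pullback y).obj ((Scheme.Modules.pullback q).obj F))))) ≅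
        ∐ fun _ : Fin w => N))
    (hcount : ∀ n : ℕ, 0 < n → n ≤ v →
      Nonempty ((Scheme.Modules.pullback ρ).obj (kernel (e dm ρ q p y H.w F)) ≅ ∐ fun _ : Fin n => N) → n = v)
    (s : Γ(F, ⊤)) (hs : s ≠ 0)
    (hsy : (PullbackSections.pbUnit y ((Scheme.Modules.pullback q).obj F)).app ⊤
      ((PullbackSections.pbUnit q F).app ⊤ s) = 0)
    (t : Γ((Scheme.Modules.pullback q).obj F, ⊤)) :
    (PullbackSections.pbUnit y ((Scheme.Modules.pullback q).obj F)).app ⊤ t = 0 := by
  obtain ⟨n, hn, h0, hK⟩ := K429.PullKer.exists_ker ρ σ hσ hE hW (e dm ρ q p y H.w F)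
  -- the section `s` as a morphism to `dm_* F`
  let s' : Γ((pushforward dm).obj F, ⊤) := s
  have hs' : s' ≠ 0 := hs
  have hse : homOf s' ≫ e dm ρ q p y H.w F = 0 := by
    apply (sec_bijective _).1
    show sec (homOf s' ≫ e dm ρ q p y H.w F) ⊤ = sec (0 : _ ⟶ _) ⊤
    rw [sec_comp, sec_homOf, res_refl]
    exact e_app_eq_zero y H.w s hsy
  have hs'0 : homOf s' ≠ 0 := by
    intro h
    apply hs'
    have h1 : sec (homOf s') ⊤ = sec (0 : Coh.structureModule J ⟶ (pushforward dm).obj F) ⊤ := by rw [h]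
    rw [sec_homOf, res_refl] at h1
    exact h1
  have hn0 : 0 < n := by
    rcases Nat.eq_zero_or_pos n with h | h
    · exfalso
      subst h
      apply hs'0
      have hz : IsZero ((Scheme.Modules.pullback ρ).obj (kernel (e dm ρ q p y H.w F))) := by
        obtain ⟨i⟩ := hK
        refine IsZero.of_iso ?_ i
        refine (IsZero.iff_id_eq_zero _).2 (Sigma.hom_ext _ _ fun b => b.elim0)
      have h1 : kernel.lift (e dm ρ q p y H.w F) (homOf s') hse = 0 := K429.PullKer.eq_zero_of_isZero ρ hz _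
      rw [← kernel.lift_ι (e dm ρ q p y H.w F) (homOf s') hse, h1, zero_comp]
    · exact h
  have he := h0 (hcount n hn0 hn hK)
  exact unit_app_eq_zero y H hF he t

end K429.Core
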