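import Groth.Agent.FBase.K106.Dim
import Mathlib.CategoryTheory.Monoidal.Cartesian.Over

/-!
# The dimension of `J^n`
-/

set_option autoImplicit false
universe u

open CategoryTheory CategoryTheory.Limits AlgebraicGeometry MonoidalCategory CartesianMonoidalCategory

namespace K429.Fam

variable {k : Type u} [Field k]

/-- `J^n`. -/
noncomputable def TT (J : Over (Spec (CommRingCat.of k))) : ℕ → Over (Spec (CommRingCat.of k))
  | 0 => 𝟙_ _
  | n + 1 => TT J n ⊗ J

variable (J : Over (Spec (CommRingCat.of k)))

theorem lft [LocallyOfFiniteType J.hom] (n : ℕ) : LocallyOfFiniteType (TT J n).hom := by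
  induction n with
  | zero =>
    exact inferInstanceAs (LocallyOfFiniteType (𝟙 (Spec (CommRingCat.of k))))
  | succ n ih =>
    exact inferInstanceAs (LocallyOfFiniteType (pullback.fst (TT J n).hom J.hom ≫ (TT J n).hom))

theorem dim_TT [LocallyOfFiniteType J.hom] {g : ℕ} (hJ : topologicalKrullDim J.left = g) (n : ℕ) :
    topologicalKrullDim (TT J n).left = ((n * g : ℕ) : WithBot ℕ∞) := by
  induction n with
  | zero =>
    rw [zero_mul]
    change topologicalKrullDim (PrimeSpectrum k) = ((0 : ℕ) : WithBot ℕ∞)
    rw [PrimeSpectrum.topologicalKrullDim_eq_ringKrullDim]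
    simp
  | succ n ih =>
    have h1 := lft J n
    have h : topologicalKrullDim ↥(pullback (TT J n).hom J.hom : Scheme.{u}) =
        topologicalKrullDim (TT J n).left + topologicalKrullDim J.left :=
      K106.Dim.topologicalKrullDim_pullback_eq_add (TT J n).hom J.hom
    change topologicalKrullDim ↥(pullback (TT J n).hom J.hom : Scheme.{u}) = _
    rw [h, ih, hJ, Nat.succ_mul]
    push_cast
    rfl

end K429.Fam
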