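import Groth.Agent.Coherent.K791.FBC0

/-!
# Restriction of sections to a curve of points, and flat base change

`H : IsPullback q p dm ρ`, `y : Z ⟶ Y`, `F` on `M`.  `e : dm_* F ⟶ ρ_* p_* y_* y^* q^* F` is the map "pull back the
sections along `y ≫ q`".  If `e = 0` (and `ρ` flat, `dm` qcqs, `F` quasi-coherent) then every section of `q^* F` dies on `Z`.
-/

set_option autoImplicit false
universe u

open CategoryTheory CategoryTheory.Limits AlgebraicGeometry Opposite TopologicalSpace
open AlgebraicGeometry.Scheme.Modules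
open Groth.Agent.CohqA Groth.Agent.CohqA.AffineBaseChange

namespace K429.EvalMap

variable {M J J' Y Z : Scheme.{u}} (dm : M ⟶ J) (ρ : J' ⟶ J) (q : Y ⟶ M) (p : Y ⟶ J') (y : Z ⟶ Y)

/-- Restriction of sections of `G` to `Z`, pushed forward along `p`. -/
noncomputable def ry (G : Y.Modules) : (pushforward p).obj G ⟶
    (pushforward p).obj ((pushforward y).obj ((Scheme.Modules.pullback y).obj G)) :=
  (pushforward p).map (PullbackSections.pbUnit y G)

/-- Pull back of sections along `y ≫ q`. -/
noncomputable def e (w : q ≫ dm = p ≫ ρ) (F : M.Modules) : (pushforward dm).obj F ⟶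
    (pushforward ρ).obj ((pushforward p).obj ((pushforward y).obj ((Scheme.Modules.pullback y).obj
      ((Scheme.Modules.pullback q).obj F)))) :=
  pushSquare dm ρ q p w (PullbackSections.pbUnit q F) ≫
    (pushforward ρ).map (ry p y ((Scheme.Modules.pullback q).obj F))

variable {dm ρ q p}

theorem ry_eq_zero (H : IsPullback q p dm ρ) [QuasiCompact dm] [QuasiSeparated dm] [Flat ρ]
    {F : M.Modules} (hF : Coh.IsQCoh F) (h : e dm ρ q p y H.w F = 0) :
    ry p y ((Scheme.Modules.pullback q).obj F) = 0 := by
  have h1 := Groth.Agent.Coherent.K791.FBC0.isIso_bc0_flat H hF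
  have h2 := Adjunction.homEquiv_naturality_right_symm (pullbackPushforwardAdjunction ρ)
    (pushSquare dm ρ q p H.w (PullbackSections.pbUnit q F)) (ry p y ((Scheme.Modules.pullback q).obj F))
  have h3 : pushSquare dm ρ q p H.w (PullbackSections.pbUnit q F) ≫
      (pushforward ρ).map (ry p y ((Scheme.Modules.pullback q).obj F)) = 0 := h
  rw [h3] at h2
  have h4 : ((pullbackPushforwardAdjunction ρ).homEquiv ((pushforward dm).obj F)
      ((pushforward p).obj ((pushforward y).obj ((Scheme.Modules.pullback y).obj
        ((Scheme.Modules.pullback q).obj F))))).symm 0 = 0 := by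
    rw [Adjunction.homEquiv_counit, Functor.map_zero, zero_comp]
  rw [h4] at h2
  exact (cancel_epi _).1 (h2.symm.trans comp_zero.symm)

/-- If `e = 0` then every section of `q^* F` over `Y` dies on `Z`. -/
theorem unit_app_eq_zero (H : IsPullback q p dm ρ) [QuasiCompact dm] [QuasiSeparated dm] [Flat ρ]
    {F : M.Modules} (hF : Coh.IsQCoh F) (h : e dm ρ q p y H.w F = 0)
    (t : Γ((Scheme.Modules.pullback q).obj F, ⊤)) :
    (PullbackSections.pbUnit y ((Scheme.Modules.pullback q).obj F)).app ⊤ t = 0 := by
  have h1 := ry_eq_zero y H hF h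
  have h2 : (ry p y ((Scheme.Modules.pullback q).obj F)).app ⊤ t =
      (PullbackSections.pbUnit y ((Scheme.Modules.pullback q).obj F)).app ⊤ t := rfl
  rw [← h2, h1]
  rfl

/-- Conversely sections which die on `Z` are killed by `e`. -/
theorem e_app_eq_zero (w : q ≫ dm = p ≫ ρ) {F : M.Modules} (s : Γ(F, ⊤))
    (h : (PullbackSections.pbUnit y ((Scheme.Modules.pullback q).obj F)).app ⊤
      ((PullbackSections.pbUnit q F).app ⊤ s) = 0) :
    (e dm ρ q p y w F).app ⊤ s = 0 := by
  have h2 : (pushSquare dm ρ q p w (PullbackSections.pbUnit q F)).app ⊤ s =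
      (PullbackSections.pbUnit q F).app ⊤ s := by
    have h0 := secMap_pushSquare dm ρ q p w (PullbackSections.pbUnit q F) ⊤ ⊤ le_top le_top s
    have e1 : PullbackAffine.secMap ρ (pushSquare dm ρ q p w (PullbackSections.pbUnit q F)) ⊤ ⊤ le_top s =
        (pushSquare dm ρ q p w (PullbackSections.pbUnit q F)).app ⊤ s := by
      simp only [PullbackAffine.secMap]
      exact congrArg (fun z => z) (PullbackSections.map_self' _ le_top _)
    have e2 : PullbackAffine.secMap q (PullbackSections.pbUnit q F) ⊤ ⊤ le_top s =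
        (PullbackSections.pbUnit q F).app ⊤ s := by
      simp only [PullbackAffine.secMap]
      exact congrArg (fun z => z) (PullbackSections.map_self' _ le_top _)
    exact e1.symm.trans (h0.trans e2)
  have h3 : (e dm ρ q p y w F).app ⊤ s =
      (ry p y ((Scheme.Modules.pullback q).obj F)).app ⊤
        ((pushSquare dm ρ q p w (PullbackSections.pbUnit q F)).app ⊤ s) := rfl
  rw [h3, h2]
  exact h

end K429.EvalMap
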