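import Groth.Agent.BunMod.K429.ConstSS
import Groth.Agent.BunMod.K429.DimT
import Groth.Agent.BunMod.K757.TwistUSS
import Groth.Agent.BunMod.K757.DetM0
import Groth.Agent.ArSurf.K482.DetSes

/-!
# The families `E₀ ⊕ P₁ ⊕ … ⊕ P_n ⊕ det^{-1}` on `X × J^n`
-/

set_option autoImplicit false
universe u

open CategoryTheory CategoryTheory.Limits AlgebraicGeometry MonoidalCategory CartesianMonoidalCategory

namespace K429.Fam

open Groth.Agent K757.Fam K757.Geo K757.TwistUSS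

variable {k : Type u} [Field k]

variable {X : Scheme.{u}} {J : Over (Spec (CommRingCat.of k))}

/-- `E₀ ⊕ P₁ ⊕ … ⊕ P_n` on `X × J^n`. -/
noncomputable def W (f : X ⟶ Spec (CommRingCat.of k)) (P : (PicF.XT f J).Modules) (E₀ : X.Modules) :
    (n : ℕ) → (PicF.XT f (TT J n)).Modules
  | 0 => cst f (𝟙_ (Over (Spec (CommRingCat.of k)))) E₀
  | n + 1 => (pl f (fst (TT J n) J) (W f P E₀ n) ⊞ pl f (snd (TT J n) J) P : (PicF.XT f (TT J n ⊗ J)).Modules)

section coords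

variable {T' : Over (Spec (CommRingCat.of k))}

/-- The coordinates of a point of `J^n` lie in `A`. -/
def InA (A : Set (T' ⟶ J)) : (n : ℕ) → (T' ⟶ TT J n) → Prop
  | 0, _ => True
  | n + 1, t => InA A n (t ≫ fst (TT J n) J) ∧ t ≫ snd (TT J n) J ∈ A

theorem InA.mono {A B : Set (T' ⟶ J)} (h : A ⊆ B) : ∀ (n : ℕ) (t : T' ⟶ TT J n), InA A n t → InA B n t
  | 0, _, _ => trivial
  | n + 1, _, ht => ⟨InA.mono h n _ ht.1, h ht.2⟩

theorem finite_inA {A : Set (T' ⟶ J)} (hA : A.Finite) (n : ℕ) : {t : T' ⟶ TT J n | InA A n t}.Finite := by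
  induction n with
  | zero =>
    have : Subsingleton (T' ⟶ TT J 0) := inferInstanceAs (Subsingleton (T' ⟶ 𝟙_ (Over (Spec (CommRingCat.of k)))))
    exact Set.toFinite _
  | succ n ih =>
    refine Set.Finite.of_injOn (f := fun t : T' ⟶ TT J (n + 1) => (t ≫ fst (TT J n) J, t ≫ snd (TT J n) J))
      (t := {t : T' ⟶ TT J n | InA A n t} ×ˢ A) ?_ ?_ (ih.prod hA)
    · intro t ht
      exact ⟨ht.1, ht.2⟩
    · intro t _ t' _ h
      exact CartesianMonoidalCategory.hom_ext _ _ (congrArg Prod.fst h) (congrArg Prod.snd h)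

variable (f : X ⟶ Spec (CommRingCat.of k)) (P : (PicF.XT f J).Modules) (E₀ : X.Modules)

omit [Field k] in
theorem isZero_of_mono_eq_zero {Y : Scheme.{u}} {A B : Y.Modules} {m : A ⟶ B} (hm : Mono m) (h : m = 0) : IsZero A := by
  rw [IsZero.iff_id_eq_zero, ← cancel_mono m, h, comp_zero, comp_zero]

theorem mono_parts {T T' : Over (Spec (CommRingCat.of k))} (t : T' ⟶ T) (A B : (PicF.XT f T).Modules)
    {E' : (PicF.XT f T').Modules} (i : pl f t (A ⊞ B) ⟶ E') (hi : Mono i) :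
    (∃ a : pl f t A ⟶ E', Mono a) ∧ (∃ b : pl f t B ⟶ E', Mono b) := by
  have h1 : IsSplitMono ((Scheme.Modules.pullback (PicF.XTmap f t)).map (biprod.inl : A ⟶ A ⊞ B)) := inferInstance
  have h2 : IsSplitMono ((Scheme.Modules.pullback (PicF.XTmap f t)).map (biprod.inr : B ⟶ A ⊞ B)) := inferInstance
  exact ⟨⟨(Scheme.Modules.pullback (PicF.XTmap f t)).map (biprod.inl : A ⟶ A ⊞ B) ≫ i, mono_comp _ i⟩,
    ⟨(Scheme.Modules.pullback (PicF.XTmap f t)).map (biprod.inr : B ⟶ A ⊞ B) ≫ i, mono_comp _ i⟩⟩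

/-- The coordinates of a point are line bundles mapping to the fibre. -/
theorem inA_of_mono (hne : ∀ a : T' ⟶ J, ¬ IsZero (pl f a P)) (n : ℕ) (t : T' ⟶ TT J n)
    {E' : (PicF.XT f T').Modules} (i : pl f t (W f P E₀ n) ⟶ E') (hi : Mono i) :
    InA {a : T' ⟶ J | ∃ φ : pl f a P ⟶ E', φ ≠ 0} n t := by
  induction n generalizing E' with
  | zero => trivial
  | succ n ih =>
    obtain ⟨⟨a, ha⟩, ⟨b, hb⟩⟩ := mono_parts f (T := TT J n ⊗ J) t (pl f (fst (TT J n) J) (W f P E₀ n))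
      (pl f (snd (TT J n) J) P) i hi
    obtain ⟨ea⟩ := pl_comp f (fst (TT J n) J) (show T' ⟶ TT J n ⊗ J from t) (W f P E₀ n)
    obtain ⟨eb⟩ := pl_comp f (snd (TT J n) J) (show T' ⟶ TT J n ⊗ J from t) P
    have hea : Mono (ea.hom ≫ a) := mono_comp ea.hom a
    have heb : Mono (eb.hom ≫ b) := mono_comp eb.hom b
    refine ⟨ih _ (ea.hom ≫ a) hea, eb.hom ≫ b, fun h0 => ?_⟩
    exact hne _ (isZero_of_mono_eq_zero heb h0)

theorem isSplitMono_comp {C : Type*} [Category* C] {A B D : C} (a : A ⟶ B) (b : B ⟶ D) [IsSplitMono a] [IsSplitMono b] :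
    IsSplitMono (a ≫ b) :=
  ⟨⟨⟨retraction b ≫ retraction a, by simp⟩⟩⟩

/-- The constant part of the fibre. -/
theorem exists_splitMono (n : ℕ) (t : T' ⟶ TT J n) :
    ∃ i : cst f T' E₀ ⟶ pl f t (W f P E₀ n), IsSplitMono i := by
  induction n with
  | zero =>
    obtain ⟨e⟩ := pl_cst f t E₀
    exact ⟨e.inv, inferInstance⟩
  | succ n ih =>
    obtain ⟨i, hi⟩ := ih ((show T' ⟶ TT J n ⊗ J from t) ≫ fst (TT J n) J)
    obtain ⟨ea⟩ := pl_comp f (fst (TT J n) J) (show T' ⟶ TT J n ⊗ J from t) (W f P E₀ n)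
    have h1 : IsSplitMono ((Scheme.Modules.pullback (PicF.XTmap f (show T' ⟶ TT J n ⊗ J from t))).map
      (biprod.inl : pl f (fst (TT J n) J) (W f P E₀ n) ⟶
        pl f (fst (TT J n) J) (W f P E₀ n) ⊞ pl f (snd (TT J n) J) P)) := inferInstance
    have h2 := isSplitMono_comp ea.hom ((Scheme.Modules.pullback (PicF.XTmap f (show T' ⟶ TT J n ⊗ J from t))).map
      (biprod.inl : pl f (fst (TT J n) J) (W f P E₀ n) ⟶
        pl f (fst (TT J n) J) (W f P E₀ n) ⊞ pl f (snd (TT J n) J) P))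
    exact ⟨_, isSplitMono_comp i (ea.hom ≫ (Scheme.Modules.pullback (PicF.XTmap f (show T' ⟶ TT J n ⊗ J from t))).map
      (biprod.inl : pl f (fst (TT J n) J) (W f P E₀ n) ⟶
        pl f (fst (TT J n) J) (W f P E₀ n) ⊞ pl f (snd (TT J n) J) P))⟩

end coords

section admissible

variable [X.Over (Spec (CommRingCat.of k))]
  [IsProper (X ↘ Spec (CommRingCat.of k))] [Smooth (X ↘ Spec (CommRingCat.of k))]
  [GeometricallyConnected (X ↘ Spec (CommRingCat.of k))] (hdim : topologicalKrullDim X = 1)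

include hdim

theorem ussOK_W {s : ℕ} (hs : 0 < s) {E₀ : X.Modules}
    (hE₀ : FlatMod.IsFinLocFreeOfRank s E₀) (hd : Curv2.deg k X E₀ s = 0)
    (hss : ModFun.IsSlopeSemistable k X E₀ s) {P : (PicF.XT (X ↘ Spec (CommRingCat.of k)) J).Modules}
    (hP : (ModFun.PicDeg (X ↘ Spec (CommRingCat.of k)) 0).ok J P) (n : ℕ) :
    BunMod.ussOK (X ↘ Spec (CommRingCat.of k)) (s + n) 0 (TT J n) (W (X ↘ Spec (CommRingCat.of k)) P E₀ n) := by
  induction n with
  | zero => exact ConstSS.ussOK_cst hdim hs hE₀ hd hss _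
  | succ n ih =>
    have h := K319.SumFam.ussOK_biprod hdim (K319.SumFam.ussOK_pull (fst (TT J n) J) ih)
      ((K319.SumFam.ussOK_one_iff hdim).2 (picDeg_pull (snd (TT J n) J) hP))
    exact h

/-- Making the determinant trivial. -/
theorem exists_detInv {s : ℕ} {T : Over (Spec (CommRingCat.of k))}
    {E : (PicF.XT (X ↘ Spec (CommRingCat.of k)) T).Modules}
    (hE : BunMod.ussOK (X ↘ Spec (CommRingCat.of k)) s 0 T E) :
    ∃ D : (PicF.XT (X ↘ Spec (CommRingCat.of k)) T).Modules,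
      (ModFun.PicDeg (X ↘ Spec (CommRingCat.of k)) 0).ok T D ∧
      BunMod.ussDetOK (X ↘ Spec (CommRingCat.of k)) (s + 1) (Coh.structureModule X) T
        (E ⊞ D : (PicF.XT (X ↘ Spec (CommRingCat.of k)) T).Modules) := by
  obtain ⟨D₀, hD₀, hdet⟩ := K757.DetM0.exists_det hE.1
  obtain ⟨D, hD, hDD⟩ := Grpsch.PicGrp.exists_inverse hD₀
  have hok₀ := K757.DetM0.picDeg_det hdim hE hdet
  have hok : (ModFun.PicDeg (X ↘ Spec (CommRingCat.of k)) 0).ok T D := by
    have h := picDeg_inv hdim hok₀ hD hDD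
    rwa [neg_zero] at h
  have hsum := K319.SumFam.ussOK_biprod hdim hE ((K319.SumFam.ussOK_one_iff hdim).2 hok)
  refine ⟨D, hok, hsum.1, ?_, hsum.2.2⟩
  obtain ⟨D₁, hD₁, hdet₁⟩ := K757.DetM0.exists_det hsum.1
  have hS := K319.Dsum.shortExact_biprod E D
  obtain ⟨e⟩ := K482.DetSes.det_ses hS hE.1 ((K319.SumFam.ussOK_one_iff hdim).2 hok).1 hdet hdet₁
    (Sga67.TensorOps.isExtPow_one D)
  obtain ⟨e'⟩ := hDD
  rw [K757.DetM0.detIs_iff hdet₁]
  refine r_trans (r_of_iso _ (pull_unit _)) (r_of_iso _ ⟨e'.symm ≪≫ e⟩)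

end admissible

end K429.Fam
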