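import Groth.Agent.BunMod.K429.JHS

/-!
# Finitely many line bundles of degree zero in an S-equivalence class
-/

set_option autoImplicit false
universe u w

open CategoryTheory CategoryTheory.Limits AlgebraicGeometry

namespace K429.FinPts

open Groth.Agent.VarietyA.DegRank K707.Base K707.Deg K707.Slope K707.Semi K846

variable {k : Type u} [Field k] {X : Scheme.{u}} [X.Over (Spec (CommRingCat.of k))]
  [IsIntegral X] [IsProper (X ↘ (Spec (CommRingCat.of k)))] (C : Crv k X)

include C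

/-- A nonzero map between stable bundles of the same slope is an isomorphism. -/
theorem isIso_of_stable {l m r : ℕ} {d : ℤ} (hr : 0 < r) (hl : 0 < l) (hm : 0 < m) {L M : X.Modules}
    (hL : FlatMod.IsFinLocFreeOfRank l L) (hLs : ModFun.IsSlopeStable k X L l)
    (hLd : Curv2.deg k X L l * (r : ℤ) = d * (l : ℤ)) (hM : FlatMod.IsFinLocFreeOfRank m M)
    (hMs : ModFun.IsSlopeStable k X M m) (hMd : Curv2.deg k X M m * (r : ℤ) = d * (m : ℤ)) (f : L ⟶ M) (hf : f ≠ 0) :
    IsIso f := by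
  refine ((st_iff hL).2 hLs).isIso_of_ne_zero C (isFinLocFree_of_rank hL) ((st_iff hM).2 hMs)
    (isFinLocFree_of_rank hM) ?_ f hf
  rw [dg_of_rank k hL, dg_of_rank k hM, rk_of_rank hL, rk_of_rank hM]
  have hr' : (0 : ℤ) < r := by exact_mod_cast hr
  have h1 : (Curv2.deg k X M m * (l : ℤ)) * (r : ℤ) = (Curv2.deg k X L l * (m : ℤ)) * (r : ℤ) := by
    calc (Curv2.deg k X M m * (l : ℤ)) * (r : ℤ) = (Curv2.deg k X M m * (r : ℤ)) * (l : ℤ) := by ring
      _ = (d * (m : ℤ)) * (l : ℤ) := by rw [hMd]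
      _ = (d * (l : ℤ)) * (m : ℤ) := by ring
      _ = (Curv2.deg k X L l * (r : ℤ)) * (m : ℤ) := by rw [hLd]
      _ = (Curv2.deg k X L l * (m : ℤ)) * (r : ℤ) := by ring
  exact (mul_right_cancel₀ hr'.ne' h1).le

/-- A stable bundle mapping nontrivially to a bundle with a Jordan-Hölder filtration (of the same slope) is one of
the factors. -/
theorem exists_factor {l r : ℕ} {d : ℤ} (hr : 0 < r) (hl : 0 < l) {L E : X.Modules}
    (hL : FlatMod.IsFinLocFreeOfRank l L) (hLs : ModFun.IsSlopeStable k X L l)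
    (hLd : Curv2.deg k X L l * (r : ℤ) = d * (l : ℤ)) {s : LTSeries (Subobject E)} (hs : BunMod.IsJH k X r d E s)
    (φ : L ⟶ E) (hφ : φ ≠ 0) : ∃ i, Nonempty (L ≅ StabCat.factor s i) := by
  have key : ∀ (n : ℕ) (hn : n < s.length + 1) (ψ : L ⟶ ((s ⟨n, hn⟩ : Subobject E) : X.Modules)), ψ ≠ 0 →
      ∃ i, Nonempty (L ≅ StabCat.factor s i) := by
    intro n
    induction n with
    | zero =>
      intro hn ψ hψ
      exfalso
      apply hψ
      have h0 : s ⟨0, hn⟩ = ⊥ := hs.1
      have hz : IsZero ((s ⟨0, hn⟩ : Subobject E) : X.Modules) := by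
        rw [h0]
        exact JH.isZero_bot
      exact hz.eq_of_tgt _ _
    | succ n ih =>
      intro hn ψ hψ
      let i : Fin s.length := ⟨n, by omega⟩
      have hle : s i.castSucc ≤ s i.succ := le_of_lt (s.step i)
      let ψ' : L ⟶ ((s i.succ : Subobject E) : X.Modules) := ψ
      by_cases h : ψ' ≫ cokernel.π (Subobject.ofLE (s i.castSucc) (s i.succ) hle) = 0
      · have : Mono (Subobject.ofLE (s i.castSucc) (s i.succ) hle) := inferInstance
        let χ : L ⟶ ((s i.castSucc : Subobject E) : X.Modules) :=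
          Abelian.monoLift (Subobject.ofLE (s i.castSucc) (s i.succ) hle) ψ' h
        have hχ : χ ≫ Subobject.ofLE (s i.castSucc) (s i.succ) hle = ψ' := Abelian.monoLift_comp _ _ _
        refine ih (by omega) χ fun h0 => hψ ?_
        have : ψ' = 0 := by rw [← hχ, h0, zero_comp]
        exact this
      · obtain ⟨m, h0, h1, h2, h3⟩ := hs.2.2 i
        have := isIso_of_stable C hr hl h0 hL hLs hLd h1 h2 h3
          (ψ' ≫ cokernel.π (Subobject.ofLE (s i.castSucc) (s i.succ) hle)) h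
        exact ⟨i, ⟨asIso (ψ' ≫ cokernel.π (Subobject.ofLE (s i.castSucc) (s i.succ) hle))⟩⟩
  have hlast : s ⟨s.length, Nat.lt_succ_self _⟩ = ⊤ := hs.2.1
  have hiso : IsIso (s ⟨s.length, Nat.lt_succ_self _⟩ : Subobject E).arrow := by
    rw [hlast]
    infer_instance
  refine key s.length (Nat.lt_succ_self _) (φ ≫ inv (s ⟨s.length, Nat.lt_succ_self _⟩ : Subobject E).arrow)
    fun h => hφ ?_
  rw [← Category.comp_id φ, ← IsIso.inv_hom_id (s ⟨s.length, Nat.lt_succ_self _⟩ : Subobject E).arrow,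
    ← Category.assoc, h, zero_comp]

omit C in
/-- A nonzero map to a coproduct of finitely many modules has a nonzero component. -/
theorem exists_component {ι : Type} [Finite ι] {L : X.Modules} {F : ι → X.Modules} (f : L ⟶ ∐ F) (hf : f ≠ 0) :
    ∃ (i : ι) (g : L ⟶ F i), g ≠ 0 := by
  classical
  have := Fintype.ofFinite ι
  have hbi : HasFiniteBiproducts X.Modules := Abelian.hasFiniteBiproducts
  let e : ∐ F ≅ ⨁ F := (biproduct.isoCoproduct F).symm
  by_contra hcon
  push Not at hcon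
  apply hf
  have h1 : f ≫ e.hom = 0 := by
    refine biproduct.hom_ext _ _ fun i => ?_
    rw [hcon i (( f ≫ e.hom) ≫ biproduct.π F i), zero_comp]
  rw [← Category.comp_id f, ← e.hom_inv_id, ← Category.assoc, h1, zero_comp]

/-- Finitely many isomorphism classes of line bundles of degree zero map to the bundles S-equivalent to `E`. -/
theorem finite {r : ℕ} {d : ℤ} (hr : 0 < r) {E : X.Modules} (hE : FlatMod.IsFinLocFreeOfRank r E)
    (hss : ModFun.IsSlopeSemistable k X E r) (hd : Curv2.deg k X E r = d) {I : Type w} (L : I → X.Modules)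
    (hL : ∀ a, FlatMod.IsFinLocFreeOfRank 1 (L a)) (hLd : ∀ a, Curv2.deg k X (L a) 1 * (r : ℤ) = d)
    (hinj : ∀ a b, Nonempty (L a ≅ L b) → a = b) :
    {a : I | ∃ (E' : X.Modules) (φ : L a ⟶ E'), BunMod.SEq k X r d E E' ∧ φ ≠ 0}.Finite := by
  by_cases hne : ∃ s : LTSeries (Subobject E), BunMod.IsJH k X r d E s
  · obtain ⟨s, hs⟩ := hne
    have hst : ∀ a, ModFun.IsSlopeStable k X (L a) 1 := fun a F r' i _ h0 h1 => by omega
    have hLd' : ∀ a, Curv2.deg k X (L a) 1 * (r : ℤ) = d * ((1 : ℕ) : ℤ) := fun a => by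
      rw [hLd, Nat.cast_one, mul_one]
    have key : ∀ a ∈ {a : I | ∃ (E' : X.Modules) (φ : L a ⟶ E'), BunMod.SEq k X r d E E' ∧ φ ≠ 0},
        ∃ i : Fin s.length, Nonempty (L a ≅ StabCat.factor s i) := by
      rintro a ⟨E', φ, ⟨s₁, s₂, hs₁, hs₂, ⟨g⟩⟩, hφ⟩
      obtain ⟨j, ⟨ej⟩⟩ := exists_factor C hr one_pos (hL a) (hst a) (hLd' a) hs₂ φ hφ
      obtain ⟨-, ⟨g'⟩⟩ := JHS.jordanHolder C hr hE hss hd hs₁ hs
      have hbi : HasFiniteBiproducts X.Modules := Abelian.hasFiniteBiproducts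
      let f : L a ⟶ ∐ fun i : Fin s.length => StabCat.factor s i :=
        ej.hom ≫ Sigma.ι (fun i : Fin s₂.length => StabCat.factor s₂ i) j ≫ g.inv ≫ g'.hom
      have hmono : Mono (Sigma.ι (fun i : Fin s₂.length => StabCat.factor s₂ i) j) := inferInstance
      have hne0 : ej.hom ≠ 0 := by
        intro h0
        apply hφ
        have : IsZero (L a) := by
          rw [IsZero.iff_id_eq_zero, ← ej.hom_inv_id, h0, zero_comp]
        exact this.eq_of_src _ _
      have hf : f ≠ 0 := by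
        intro h0
        have h1 : (ej.hom ≫ Sigma.ι (fun i : Fin s₂.length => StabCat.factor s₂ i) j) ≫ (g.symm ≪≫ g').hom = 0 := by
          rw [Iso.trans_hom, Iso.symm_hom, Category.assoc]
          exact h0
        have h2 : ej.hom ≫ Sigma.ι (fun i : Fin s₂.length => StabCat.factor s₂ i) j = 0 :=
          (cancel_mono (g.symm ≪≫ g').hom).1 (h1.trans zero_comp.symm)
        apply hne0
        rw [← cancel_mono (Sigma.ι (fun i : Fin s₂.length => StabCat.factor s₂ i) j), h2, zero_comp]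
      obtain ⟨i, g₀, hg₀⟩ := exists_component f hf
      obtain ⟨m, h0, h1, h2, h3⟩ := hs.2.2 i
      have := isIso_of_stable C hr one_pos h0 (hL a) (hst a) (hLd' a) h1 h2 h3 g₀ hg₀
      exact ⟨i, ⟨asIso g₀⟩⟩
    choose i hi using key
    rw [← Set.finite_coe_iff]
    refine Finite.of_injective (fun a : {a : I | ∃ (E' : X.Modules) (φ : L a ⟶ E'), BunMod.SEq k X r d E E' ∧ φ ≠ 0} =>
      i a.1 a.2) ?_
    rintro ⟨a, ha⟩ ⟨b, hb⟩ hab
    apply Subtype.ext
    apply hinj
    obtain ⟨ea⟩ := hi a ha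
    obtain ⟨eb⟩ := hi b hb
    have hab' : i a ha = i b hb := hab
    rw [hab'] at ea
    exact ⟨ea ≪≫ eb.symm⟩
  · convert Set.finite_empty
    rw [Set.eq_empty_iff_forall_notMem]
    rintro a ⟨E', φ, ⟨s₁, s₂, hs₁, hs₂, ⟨g⟩⟩, hφ⟩
    exact hne ⟨s₁, hs₁⟩

end K429.FinPts
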