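import Groth.Agent.BunMod.K429.Fam
import Groth.Agent.BunMod.K429.FinPts
import Mathlib.AlgebraicGeometry.AlgClosed.Basic

/-!
# The classifying morphism of `E₀ ⊕ P₁ ⊕ … ⊕ P_n ⊕ det^{-1}` has finite fibres
-/

set_option autoImplicit false
universe u

open CategoryTheory CategoryTheory.Limits AlgebraicGeometry MonoidalCategory CartesianMonoidalCategory

namespace K429.FibFin

open Groth.Agent K757.Fam K757.Geo K757.TwistUSS K429.Fam

/-- `k`-points of a scheme locally of finite type over an algebraically closed field. -/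
theorem exists_point {k : Type u} [Field k] [IsAlgClosed k] (T : Over (Spec (CommRingCat.of k)))
    [LocallyOfFiniteType T.hom] {x : T.left} (hx : x ∈ closedPoints T.left) :
    ∃ t : Over.mk (𝟙 (Spec (CommRingCat.of k))) ⟶ T, t.left (IsLocalRing.closedPoint k) = x :=
  ⟨Over.homMk (pointOfClosedPoint T.hom x hx) (pointOfClosedPoint_comp T.hom x hx),
    pointOfClosedPoint_apply T.hom x hx _⟩

theorem point_ext {k : Type u} [Field k] [IsAlgClosed k] {T : Over (Spec (CommRingCat.of k))}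
    [LocallyOfFiniteType T.hom] {t t' : Over.mk (𝟙 (Spec (CommRingCat.of k))) ⟶ T}
    (h : t.left (IsLocalRing.closedPoint k) = t'.left (IsLocalRing.closedPoint k)) : t = t' := by
  apply Over.OverMorphism.ext
  exact ext_of_apply_closedPoint_eq T.hom (Over.w t) (Over.w t') h

theorem mem_closedPoints {k : Type u} [Field k] [IsAlgClosed k] {T : Over (Spec (CommRingCat.of k))}
    [LocallyOfFiniteType T.hom] (t : Over.mk (𝟙 (Spec (CommRingCat.of k))) ⟶ T) :
    t.left (IsLocalRing.closedPoint k) ∈ closedPoints T.left :=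
  (pointEquivClosedPoint T.hom ⟨t.left, Over.w t⟩).2

variable {k : Type u} [Field k] [IsAlgClosed k] {X : Scheme.{u}} [X.Over (Spec (CommRingCat.of k))]
  [IsProper (X ↘ Spec (CommRingCat.of k))] [Smooth (X ↘ Spec (CommRingCat.of k))]
  [GeometricallyConnected (X ↘ Spec (CommRingCat.of k))] (hdim : topologicalKrullDim X = 1)
  {J : Over (Spec (CommRingCat.of k))} [GrpObj J]
  {ψ : (ModFun.PicDeg (X ↘ Spec (CommRingCat.of k)) 0).Hom ⊤ J}
  (FJ : FineJ (X ↘ Spec (CommRingCat.of k)) J ψ)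

include hdim

theorem finite_pts {r : ℕ} (hr : 0 < r) {M' : Over (Spec (CommRingCat.of k))}
    {φ' : (BunMod.USSdet (X ↘ Spec (CommRingCat.of k)) r (Coh.structureModule X)).Hom ⊤ M'}
    (hM' : BunMod.IsModSSdet (X ↘ Spec (CommRingCat.of k)) ⊤ r (Coh.structureModule X) M' φ')
    {n : ℕ} {E₀ : X.Modules} {E : (PicF.XT (X ↘ Spec (CommRingCat.of k)) (TT J n)).Modules}
    (hE : (BunMod.USSdet (X ↘ Spec (CommRingCat.of k)) r (Coh.structureModule X)).ok (TT J n) E)
    (i : W (X ↘ Spec (CommRingCat.of k)) FJ.P E₀ n ⟶ E) (hi : IsSplitMono i)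
    (t₀ : Over.mk (𝟙 (Spec (CommRingCat.of k))) ⟶ TT J n) :
    {t : Over.mk (𝟙 (Spec (CommRingCat.of k))) ⟶ TT J n |
      t ≫ φ'.app _ E trivial hE = t₀ ≫ φ'.app _ E trivial hE}.Finite := by
  let f := X ↘ Spec (CommRingCat.of k)
  let p : Over (Spec (CommRingCat.of k)) := Over.mk (𝟙 (Spec (CommRingCat.of k)))
  let _ : (PicF.XT f (Over.mk (𝟙 (Spec (CommRingCat.of k))))).Over (Spec (CommRingCat.of k)) := ⟨PicF.XTproj f p⟩
  obtain ⟨i1, i2, i3, i4, C⟩ := K319.SumFam.crv_fib hdim (𝟙 (Spec (CommRingCat.of k)))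
  have hok : ∀ t : p ⟶ TT J n, (BunMod.USSdet f r (Coh.structureModule X)).ok p (pl f t E) :=
    fun t => ⟨trivial, K757.DetM0.ussDetOK_pull t hE.2⟩
  have hss : ∀ t : p ⟶ TT J n, K140.BM.SSB r (𝟙 (Spec (CommRingCat.of k))) (pl f t E) := fun t =>
    K319.SumFam.ssb_pl ((K757.DetM0.ussDet_ok_iff hdim).1 hE).1.2 t
  have hP : BunMod.ussOK f 1 0 J FJ.P := (K319.SumFam.ussOK_one_iff hdim).2 FJ.ok
  have hss1 : ∀ a : p ⟶ J, K140.BM.SSB 1 (𝟙 (Spec (CommRingCat.of k))) (FJ.at' a) := fun a =>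
    K319.SumFam.ssb_pl hP a
  have hdO : Curv2.deg k (PicF.XT f (Over.mk (𝟙 (Spec (CommRingCat.of k)))))
      ((Scheme.Modules.pullback (pullback.fst f (𝟙 (Spec (CommRingCat.of k))))).obj (Coh.structureModule X)) 1 = 0 := by
    have h := deg_congr (k := k) (X := PicF.XT f (Over.mk (𝟙 (Spec (CommRingCat.of k)))))
      (pull_unit (show PicF.XT f (Over.mk (𝟙 (Spec (CommRingCat.of k)))) ⟶ X from
        pullback.fst f (𝟙 (Spec (CommRingCat.of k))))) 1
    refine h.trans ?_
    rw [Curv2.deg]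
    push_cast
    ring
  let A : Set (p ⟶ J) := {a : p ⟶ J | ∃ (E' : (PicF.XT f (Over.mk (𝟙 (Spec (CommRingCat.of k))))).Modules)
    (φ : FJ.at' a ⟶ E'), BunMod.SEq k (PicF.XT f (Over.mk (𝟙 (Spec (CommRingCat.of k))))) r
      (Curv2.deg k (PicF.XT f (Over.mk (𝟙 (Spec (CommRingCat.of k)))))
      ((Scheme.Modules.pullback (pullback.fst f (𝟙 (Spec (CommRingCat.of k))))).obj (Coh.structureModule X)) 1)
        (pl f t₀ E) E' ∧ φ ≠ 0}
  have hA : A.Finite := by
    refine FinPts.finite C hr (hss t₀).1 (hss t₀).2.2 ?_ (fun a => FJ.at' a) (fun a => (hss1 a).1) (fun a => ?_)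
      (fun a b hab => ?_)
    · rw [hdO]
      exact (hss t₀).2.1
    · rw [hdO]
      have h : Curv2.deg k (PicF.XT f (Over.mk (𝟙 (Spec (CommRingCat.of k))))) (FJ.at' a) 1 = 0 := (hss1 a).2.1
      rw [h, zero_mul]
    · have h := (FJ.psi_eq_iff (FJ.ok_at a) (FJ.ok_at b)).2 (r_of_iso f hab)
      rwa [FJ.psi_at, FJ.psi_at] at h
  refine (finite_inA hA n).subset fun t ht => ?_
  have hne : ∀ a : p ⟶ J, ¬ IsZero (pl f a FJ.P) := by
    intro a h0
    have h1 := K707.Base.rk_of_rank (hss1 a).1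
    have h2 := K707.Slope.rk_of_isZero h0
    have h3 : (1 : ℕ) = 0 := h1.symm.trans h2
    exact one_ne_zero h3
  have hmono : IsSplitMono ((Scheme.Modules.pullback (PicF.XTmap f t)).map i) := inferInstance
  refine InA.mono ?_ n t (inA_of_mono f FJ.P E₀ hne n t ((Scheme.Modules.pullback (PicF.XTmap f t)).map i)
    inferInstance)
  rintro a ⟨φ, hφ⟩
  refine ⟨_, φ, ?_, hφ⟩
  refine (((hM'.2.2 k (𝟙 (Spec (CommRingCat.of k))) trivial).2 (pl f t₀ E) (pl f t E) (hok t₀) (hok t)).1 ?_)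
  have e1 := φ'.natural t₀ E trivial trivial hE (hok t₀)
  have e2 := φ'.natural t E trivial trivial hE (hok t)
  exact e1.trans (Eq.trans ht.symm e2.symm)

/-- The fibres of the classifying morphism through closed points have finitely many closed points. -/
theorem finite_closedPoints {r : ℕ} (hr : 0 < r) {M' : Over (Spec (CommRingCat.of k))}
    {φ' : (BunMod.USSdet (X ↘ Spec (CommRingCat.of k)) r (Coh.structureModule X)).Hom ⊤ M'}
    (hM' : BunMod.IsModSSdet (X ↘ Spec (CommRingCat.of k)) ⊤ r (Coh.structureModule X) M' φ')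
    {n : ℕ} {E₀ : X.Modules} {E : (PicF.XT (X ↘ Spec (CommRingCat.of k)) (TT J n)).Modules}
    (hE : (BunMod.USSdet (X ↘ Spec (CommRingCat.of k)) r (Coh.structureModule X)).ok (TT J n) E)
    (i : W (X ↘ Spec (CommRingCat.of k)) FJ.P E₀ n ⟶ E) (hi : IsSplitMono i)
    [LocallyOfFiniteType (TT J n).hom] [LocallyOfFiniteType M'.hom] :
    ∀ x ∈ closedPoints (TT J n).left, {y : (TT J n).left | y ∈ closedPoints (TT J n).left ∧
      (φ'.app _ E trivial hE).left y = (φ'.app _ E trivial hE).left x}.Finite := by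
  intro x hx
  obtain ⟨t₀, rfl⟩ := exists_point (TT J n) hx
  refine ((finite_pts hdim FJ hr hM' hE i hi t₀).image fun t => t.left (IsLocalRing.closedPoint k)).subset ?_
  rintro y ⟨hy, hyx⟩
  obtain ⟨t, rfl⟩ := exists_point (TT J n) hy
  refine ⟨t, ?_, rfl⟩
  refine point_ext ?_
  rw [Over.comp_left, Over.comp_left, Scheme.Hom.comp_apply, Scheme.Hom.comp_apply]
  exact hyx

end K429.FibFin
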