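import Groth.Agent.VBCurve.K658.BasePts
import Groth.Agent.VBCurve.K706.TensSS
import Groth.Agent.BunMod.K596.StrVer
import Groth.Agent.BunMod.K757.TwistUSS
import Groth.Agent.JacVar.K533.CurveBasic
import Mathlib.AlgebraicGeometry.AlgClosed.Basic

/-!
# Existence of the data on the curve: a "good" bundle, a universal line bundle
-/

set_option autoImplicit false
universe u

open CategoryTheory CategoryTheory.Limits AlgebraicGeometry

namespace K429.GoodEx

open Groth.Agent

variable {k : Type u} [Field k] [IsAlgClosed k] {X : Scheme.{u}} [X.Over (Spec (CommRingCat.of k))]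
  [IsProper (X ↘ Spec (CommRingCat.of k))] [Smooth (X ↘ Spec (CommRingCat.of k))]
  [GeometricallyConnected (X ↘ Spec (CommRingCat.of k))]

variable (k X) in
include k in
theorem isIntegral : IsIntegral X := K533.CurveBasic.isIntegral (X ↘ Spec (CommRingCat.of k))

variable (k) in
theorem h0_one : Module.finrank k (Coh.HH X (Coh.structureModule X) 0) = 1 := by
  have hgi : GeometricallyIntegral (X ↘ Spec (CommRingCat.of k)) :=
    K533.CurveBasic.geometricallyIntegral (X ↘ Spec (CommRingCat.of k))
  exact K314.H0One.finrank_eq_one_of_geometricallyIntegral k X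

/-- **A semistable bundle of degree zero all of whose twists of degree `g - 1` have sections.** -/
theorem exists_good [CharZero k] [IsIntegral X] (hdim : topologicalKrullDim X = 1) (g : ℕ) (hg : Curv2.genus k X = g)
    (hg2 : 2 ≤ g) : ∃ E : X.Modules, K658.Stable.Good k hdim E := by
  refine K658.BasePts.exists_good k hdim (h0_one k) ?_ rfl fun E F hE hF sE sF =>
    K706.TensSS.ss_tensor_smooth hdim hE hF sE sF
  have h : (K658.NoSec.Cd k hdim).g = Curv2.genus k X := rfl
  rw [h, hg]
  exact hg2

/-- A rational point. -/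
theorem exists_section : ∃ σ : Spec (CommRingCat.of k) ⟶ X, σ ≫ (X ↘ Spec (CommRingCat.of k)) = 𝟙 _ := by
  have hint : IsIntegral X := isIntegral k X
  have hj : JacobsonSpace X := LocallyOfFiniteType.jacobsonSpace (X ↘ Spec (CommRingCat.of k))
  obtain ⟨x, -, hx⟩ := nonempty_inter_closedPoints (X := X) (Z := Set.univ) Set.univ_nonempty isClosed_univ.isLocallyClosed
  exact ⟨pointOfClosedPoint (X ↘ Spec (CommRingCat.of k)) x hx, pointOfClosedPoint_comp _ x hx⟩

open MonoidalCategory CartesianMonoidalCategory in
theorem exists_fineJ (hdim : topologicalKrullDim X = 1) {J : Over (Spec (CommRingCat.of k))} [GrpObj J]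
    [IsCommMonObj J] {ψ : (ModFun.PicDeg (X ↘ Spec (CommRingCat.of k)) 0).Hom ⊤ J}
    (hJ : Jac.IsJacobian (X ↘ Spec (CommRingCat.of k)) ⊤ J ψ) :
    Nonempty (K757.TwistUSS.FineJ (X ↘ Spec (CommRingCat.of k)) J ψ) := by
  obtain ⟨σ, hσ⟩ := exists_section (k := k) (X := X)
  exact K757.TwistUSS.exists_fineJ hdim σ hσ hJ

end K429.GoodEx
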