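import Groth.Agent.BunMod.K596.StrVer
import Groth.Agent.Grpsch.MulFinFlat
import Groth.Agent.Ega2.Tens

/-!
# `dm_* Θ` is trivialised by `[r]`
-/

set_option autoImplicit false
universe u

open CategoryTheory CategoryTheory.Limits AlgebraicGeometry MonoidalCategory CartesianMonoidalCategory MonObj

namespace K429.VerOne

open Groth.Agent Groth.Agent.BunMod.K596

variable {k : Type u} [Field k] [IsAlgClosed k] {g r : ℕ} {M J : Over (Spec (CommRingCat.of k))} [GrpObj J]
  {dm : M ⟶ J} {Θ : M.left.Modules} {L : J.left.Modules}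

theorem VerD.of_iso {m v : ℕ} {E E' : J.left.Modules} (e : E ≅ E') (h : VerD J L r m v E) : VerD J L r m v E' := by
  obtain ⟨i⟩ := h.iso
  exact ⟨Dcoh.FinLocFree.isFinLocFree_of_iso e h.locFree, h.pos,
    ⟨(Scheme.Modules.pullback _).mapIso e.symm ≪≫ i⟩⟩

theorem exists_verD (hJ : PPAV g J L) (hr : 1 ≤ r) (hΘ : PicF.IsInvertible Θ) (S : Str r dm Θ L) :
    ∃ v : ℕ, VerD J L r 1 v ((Scheme.Modules.pushforward dm.left).obj Θ) := by
  have h1 := hJ.proper
  have h2 := hJ.gint
  have h3 := hJ.smooth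
  obtain ⟨hfin, hflat, hsurj⟩ := Grpsch.MulFinFlat.isFinite_flat_surjective k J r hr
  refine ⟨_, VerD.of_iso ((Scheme.Modules.pushforward dm.left).mapIso ?_) (StrVer.verD_of_str' hJ hΘ S 1)⟩
  exact Ega2.Tens.lunit Θ

end K429.VerOne
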