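import Groth.Agent.BunMod.K429.Main
import Groth.Agent.BunMod.K429.GoodEx
import Groth.Agent.BunMod.K429.VerOne
import Groth.Agent.BunMod.K808.Verl

/-!
# The base locus on `SU_X(r)`: final glue
-/

set_option autoImplicit false
universe u

open CategoryTheory CategoryTheory.Limits AlgebraicGeometry MonoidalCategory CartesianMonoidalCategory MonObj

namespace K429.Final

open Groth.Agent Groth.Agent.BunMod.K596 K429.H0

/-- The data on the `U_X(r, 0)` side over a given `(M', φ', Θ')`. -/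
def HasU (k : Type u) [Field k] [IsAlgClosed k] (X : Scheme.{u}) [X.Over (Spec (CommRingCat.of k))]
    (N : X.Modules) (J : Over (Spec (CommRingCat.of k))) [GrpObj J]
    (ψ : (ModFun.PicDeg (X ↘ Spec (CommRingCat.of k)) 0).Hom ⊤ J) (ΘJ : J.left.Modules) (r : ℕ)
    (M' : Over (Spec (CommRingCat.of k)))
    (φ' : (BunMod.USSdet (X ↘ Spec (CommRingCat.of k)) r (Coh.structureModule X)).Hom ⊤ M')
    (Θ' : M'.left.Modules) : Prop :=
  ∃ (M : Over (Spec (CommRingCat.of k))) (φ : (BunMod.USS (X ↘ Spec (CommRingCat.of k)) r 0).Hom ⊤ M)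
    (Θ : M.left.Modules) (dm : M ⟶ J) (S : Str r dm Θ ΘJ) (e : S.M₀ ≅ M'),
    BunMod.IsThetaLB (X ↘ Spec (CommRingCat.of k)) (BunMod.ussOK (X ↘ Spec (CommRingCat.of k)) r 0) φ N Θ ∧
    h0 Θ = 1 ∧
    (∀ (E : (PicF.XT (X ↘ Spec (CommRingCat.of k)) (Over.mk (𝟙 (Spec (CommRingCat.of k))))).Modules)
      (hE : (BunMod.USS (X ↘ Spec (CommRingCat.of k)) r 0).ok (Over.mk (𝟙 (Spec (CommRingCat.of k)))) E),
      ¬ Subsingleton (Coh.HH (PicF.XT (X ↘ Spec (CommRingCat.of k)) (Over.mk (𝟙 (Spec (CommRingCat.of k)))))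
        (CohB1.tensorMod E ((Scheme.Modules.pullback (pullback.fst (X ↘ Spec (CommRingCat.of k))
          (𝟙 (Spec (CommRingCat.of k))))).obj N)) 0) →
      (φ.app _ E trivial hE).left (IsLocalRing.closedPoint k) ∈
        BunMod.thetaLocus (X ↘ Spec (CommRingCat.of k)) (BunMod.ussOK (X ↘ Spec (CommRingCat.of k)) r 0) φ N) ∧
    Nonempty (S.A ≅ (Scheme.Modules.pullback e.hom.left).obj Θ') ∧
    ∀ (T : Over (Spec (CommRingCat.of k))) (E L : (PicF.XT (X ↘ Spec (CommRingCat.of k)) T).Modules)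
        (hE : (BunMod.USSdet (X ↘ Spec (CommRingCat.of k)) r (Coh.structureModule X)).ok T E)
        (hL : (ModFun.PicDeg (X ↘ Spec (CommRingCat.of k)) 0).ok T L)
        (hEL : (BunMod.USS (X ↘ Spec (CommRingCat.of k)) r 0).ok T (CohB1.tensorMod E L)),
        lift (φ'.app T E trivial hE ≫ e.inv) (ψ.app T L trivial hL) ≫ S.q =
          φ.app T (CohB1.tensorMod E L) trivial hEL

theorem final (k : Type u) [Field k] [IsAlgClosed k] [CharZero k]
    (X : Scheme.{u}) [X.Over (Spec (CommRingCat.of k))]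
    [IsProper (X ↘ Spec (CommRingCat.of k))] [Smooth (X ↘ Spec (CommRingCat.of k))]
    [GeometricallyConnected (X ↘ Spec (CommRingCat.of k))] (hdim : topologicalKrullDim ↥X = 1)
    (g : ℕ) (hg : Curv2.genus k X = g) (hg2 : 2 ≤ g) (N : X.Modules) (hN : PicF.IsInvertible N)
    (hNdeg : Curv2.deg k X N 1 = (g : ℤ) - 1) (q : ℕ) (hq : 1 ≤ q)
    (J : Over (Spec (CommRingCat.of k))) [GrpObj J] [IsCommMonObj J]
    (ψ : (ModFun.PicDeg (X ↘ Spec (CommRingCat.of k)) 0).Hom ⊤ J)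
    (hJ : Jac.IsJacobian (X ↘ Spec (CommRingCat.of k)) ⊤ J ψ) (ΘJ : J.left.Modules) (hP : PPAV g J ΘJ)
    (hU : ∀ r : ℕ, 2 ≤ r → ∀ (M' : Over (Spec (CommRingCat.of k)))
      (φ' : (BunMod.USSdet (X ↘ Spec (CommRingCat.of k)) r (Coh.structureModule X)).Hom ⊤ M'),
        BunMod.IsModSSdet (X ↘ Spec (CommRingCat.of k)) ⊤ r (Coh.structureModule X) M' φ' →
        (∀ (Ω : Type u) [Field Ω] [IsAlgClosed Ω] (t : Spec (CommRingCat.of Ω) ⟶ Spec (CommRingCat.of k)),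
          Nonempty (Over.mk t ⟶ M')) →
        ∀ (Θ' : M'.left.Modules), BunMod.IsThetaLB (X ↘ Spec (CommRingCat.of k))
          (BunMod.ussDetOK (X ↘ Spec (CommRingCat.of k)) r (Coh.structureModule X)) φ' N Θ' →
          HasU k X N J ψ ΘJ r M' φ' Θ') :
    ∃ p : ℕ, ∀ r : ℕ, p ≤ r →
      ∀ (M' : Over (Spec (CommRingCat.of k))) (φ' : (BunMod.USSdet (X ↘ Spec (CommRingCat.of k)) r (Coh.structureModule X)).Hom ⊤ M'),
        BunMod.IsModSSdet (X ↘ Spec (CommRingCat.of k)) ⊤ r (Coh.structureModule X) M' φ' →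
        (∀ (Ω : Type u) [Field Ω] [IsAlgClosed Ω] (t : Spec (CommRingCat.of Ω) ⟶ Spec (CommRingCat.of k)),
          Nonempty (Over.mk t ⟶ M')) →
        ∀ (Θ' : M'.left.Modules), BunMod.IsThetaLB (X ↘ Spec (CommRingCat.of k)) (BunMod.ussDetOK (X ↘ Spec (CommRingCat.of k)) r (Coh.structureModule X)) φ' N Θ' →
          (((q - 1) * g : ℕ) : WithBot ℕ∞) ≤
            topologicalKrullDim {x : ↥M'.left // ∀ s : Coh.structureModule M'.left ⟶ Θ', x ∉ CohB1.genLocus Θ' s} := by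
  have hint : IsIntegral X := GoodEx.isIntegral k X
  obtain ⟨E₁, hE₁⟩ := GoodEx.exists_good hdim g hg hg2
  obtain ⟨FJ⟩ := GoodEx.exists_fineJ hdim hJ
  refine ⟨Groth.Agent.VarietyA.DegRank.rk E₁ + q, fun r hr M' φ' hM' hne' Θ' hΘ' => ?_⟩
  have hpos := hE₁.pos
  obtain ⟨E₀, hE₀, hrk⟩ := hE₁.exists_ge hdim (r - q - Groth.Agent.VarietyA.DegRank.rk E₁)
  have hr' : Groth.Agent.VarietyA.DegRank.rk E₀ + (q - 1) + 1 = r := by omega
  obtain ⟨M, φ, Θ, dm, S, e, hΘ, h1, hth, eA, hqf⟩ := hU r (by omega) M' φ' hM' hne' Θ' hΘ'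
  obtain ⟨v, hV⟩ := VerOne.exists_verD hP (by omega) hΘ.1 S
  refine Main.dim_ge hdim g hg hN hNdeg hE₀ (q - 1) r hr' FJ hP hΘ hM' hΘ'.1 S e eA hqf hV (fun n E hE => ?_) h1 hth
  have h := K808.Verl.h0_of_verD hP (by omega : 1 ≤ r) le_rfl hE
  rw [_root_.one_pow, _root_.mul_one] at h
  exact h

end K429.Final
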