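import Groth.Agent.VarietyB.HHPush
import Groth.Agent.CurvesB.HZero
import Groth.Agent.VBCurve.K708.Coho
import Groth.Agent.Fdesc.LocGenPullback

/-!
# Global sections: push forward, monomorphisms, nonzero sections
-/

set_option autoImplicit false
universe u

open CategoryTheory CategoryTheory.Limits AlgebraicGeometry

namespace K429.H0

open Groth.Agent Groth.Agent.Fdesc.LocGen

variable {k : Type u} [Field k]

/-- `h⁰` of a module on a scheme over `k`. -/
noncomputable abbrev h0 {T : Over (Spec (CommRingCat.of k))} (F : T.left.Modules) : ℕ :=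
  @Module.finrank k (Coh.HH T.left F 0) _ _ (@Coh.moduleOver k _ T.left ⟨T.hom⟩ F 0)

theorem h0_push {T S : Over (Spec (CommRingCat.of k))} (f : T ⟶ S) (F : T.left.Modules) :
    h0 (T := S) ((Scheme.Modules.pushforward f.left).obj F) = h0 F := by
  let _ : T.left.Over (Spec (CommRingCat.of k)) := ⟨T.hom⟩
  let _ : S.left.Over (Spec (CommRingCat.of k)) := ⟨S.hom⟩
  exact (((VarietyB.HHLes.toHH k _ 0).symm.trans (VarietyB.HHPush.zeroEquiv f.left k (Over.w f) F)).trans
    (VarietyB.HHLes.toHH k F 0)).finrank_eq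

theorem h0_le_of_mono {T : Over (Spec (CommRingCat.of k))} [IsProper T.hom] {F G : T.left.Modules}
    (hG : Coh.IsCoh G) (i : F ⟶ G) [Mono i] : h0 F ≤ h0 G := by
  let _ : T.left.Over (Spec (CommRingCat.of k)) := ⟨T.hom⟩
  have : IsProper (T.left ↘ Spec (CommRingCat.of k)) := inferInstanceAs (IsProper T.hom)
  exact K708.Coho.finrank_H0_le_of_mono k hG i

theorem exists_ne_zero {T : Over (Spec (CommRingCat.of k))} {F : T.left.Modules} (h : 0 < h0 F) :
    ∃ s : Coh.structureModule T.left ⟶ F, s ≠ 0 := by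
  let _ : T.left.Over (Spec (CommRingCat.of k)) := ⟨T.hom⟩
  have h1 : Nontrivial (Coh.HH T.left F 0) := by
    by_contra hcon
    rw [not_nontrivial_iff_subsingleton] at hcon
    have h2 : h0 F = 0 := @Module.finrank_zero_of_subsingleton k (Coh.HH T.left F 0) _ _
      (@Coh.moduleOver k _ T.left ⟨T.hom⟩ F 0) _ _
    omega
  obtain ⟨x, hx⟩ := exists_ne (0 : Coh.HH T.left F 0)
  let t : Γ(F, ⊤) := CurvesB.HZero.equivAdd F x
  have ht : t ≠ 0 := fun h0 => hx ((CurvesB.HZero.equivAdd F).injective (by rw [map_zero]; exact h0))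
  refine ⟨homOf t, fun h0 => ht ?_⟩
  have h3 : sec (homOf t) ⊤ = sec (0 : Coh.structureModule T.left ⟶ F) ⊤ := by rw [h0]
  rw [sec_homOf, res_refl] at h3
  exact h3

end K429.H0
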