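import Groth.Agent.ShStab.K846.JH2
import Groth.Agent.ShStab.K846.CohAdd
import Groth.Agent.VBCurve.K707.Semi
import Groth.Prelude.Def_BunMod
import Mathlib.Algebra.Order.Module.Synonym
import Mathlib.Algebra.Order.Group.Synonym
import Mathlib.Data.Prod.Lex
import Mathlib.Algebra.Order.Monoid.Prod

/-!
# Jordan-Hölder filtrations of bundles on a curve with respect to the slope

`BunMod.IsJH` as a special case of the abstract Jordan-Hölder theory `K846.JH2`, with the invariant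
`(rank, degree)` in `ℚ ×ₗ ℚ`.
-/

set_option autoImplicit false
universe u

open CategoryTheory CategoryTheory.Limits AlgebraicGeometry

namespace K429.JHS

open Groth.Agent.VarietyA.DegRank K707.Base K707.Deg K707.Slope K707.Semi K846

instance posLex : PosSMulStrictMono ℚ (ℚ ×ₗ ℚ) where
  smul_lt_smul_of_pos_left c hc a b hab := by
    rw [Prod.Lex.lt_iff] at hab ⊢
    rcases hab with h | ⟨h1, h2⟩
    · exact Or.inl (mul_lt_mul_of_pos_left h hc)
    · exact Or.inr ⟨congrArg (c * ·) h1, mul_lt_mul_of_pos_left h2 hc⟩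

/-- The rank coordinate. -/
def al : (ℚ ×ₗ ℚ) →ₗ[ℚ] ℚ where
  toFun x := (ofLex x).1
  map_add' _ _ := rfl
  map_smul' _ _ := rfl

variable (k : Type u) [Field k] {X : Scheme.{u}} [X.Over (Spec (CommRingCat.of k))]
  [IsIntegral X] [IsProper (X ↘ (Spec (CommRingCat.of k)))]

/-- Rank and degree. -/
noncomputable def PP (M : X.Modules) : ℚ ×ₗ ℚ := toLex ((rk M : ℚ), (dg k M : ℚ))

@[simp] theorem al_PP (M : X.Modules) : al (PP k M) = rk M := rfl

theorem add : Lat.Add (fun M : X.Modules => Coh.IsCoh M) (PP k) := by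
  have := isNoetherian k (X := X)
  refine CohAdd.add_of _ fun S hS h1 h2 h3 => ?_
  have e1 := rk_add' k S hS h2
  have e2 := dg_add k S hS h1 h2 h3
  show toLex _ = toLex _ + toLex _
  rw [e1, e2, ← toLex_add, Prod.mk_add_mk]
  push_cast
  rfl

variable {k}

theorem le_iff {E F : X.Modules} : al (PP k E) • PP k F ≤ al (PP k F) • PP k E ↔
    (dg k F : ℤ) * rk E ≤ dg k E * rk F := by
  rw [Prod.Lex.le_iff, al_PP, al_PP]
  show ((rk E : ℚ) * (rk F : ℚ) < (rk F : ℚ) * (rk E : ℚ) ∨ ((rk E : ℚ) * (rk F : ℚ) = (rk F : ℚ) * (rk E : ℚ) ∧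
    (rk E : ℚ) * (dg k F : ℚ) ≤ (rk F : ℚ) * (dg k E : ℚ))) ↔ _
  have h : (rk E : ℚ) * (rk F : ℚ) = (rk F : ℚ) * (rk E : ℚ) := mul_comm _ _
  rw [h]
  simp only [lt_self_iff_false, true_and, false_or]
  rw [mul_comm (rk E : ℚ), mul_comm (rk F : ℚ)]
  norm_cast

theorem lt_iff {E F : X.Modules} : al (PP k E) • PP k F < al (PP k F) • PP k E ↔
    (dg k F : ℤ) * rk E < dg k E * rk F := by
  rw [Prod.Lex.lt_iff, al_PP, al_PP]
  show ((rk E : ℚ) * (rk F : ℚ) < (rk F : ℚ) * (rk E : ℚ) ∨ ((rk E : ℚ) * (rk F : ℚ) = (rk F : ℚ) * (rk E : ℚ) ∧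
    (rk E : ℚ) * (dg k F : ℚ) < (rk F : ℚ) * (dg k E : ℚ))) ↔ _
  have h : (rk E : ℚ) * (rk F : ℚ) = (rk F : ℚ) * (rk E : ℚ) := mul_comm _ _
  rw [h]
  simp only [lt_self_iff_false, true_and, false_or]
  rw [mul_comm (rk E : ℚ), mul_comm (rk F : ℚ)]
  norm_cast

variable (C : Crv k X)

include C

theorem ss_abs {E : X.Modules} (hE : FlatMod.IsFinLocFree E) (h : SS k E) :
    JH.SS (fun M : X.Modules => Coh.IsCoh M) (PP k) al E := by
  intro F i hi hF
  rw [le_iff]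
  exact h F i hi (vb_of_mono C i hF hE)

theorem st_abs {E : X.Modules} (hE : FlatMod.IsFinLocFree E) (h : St k E) :
    JH.St (fun M : X.Modules => Coh.IsCoh M) (PP k) al E := by
  intro F i hi hF h0 h1
  rw [lt_iff]
  have hFv := vb_of_mono C i hF hE
  have hle := rk_le_of_mono C i hF (coh_of_vb hE)
  have hpos : 0 < rk F := by
    rcases Nat.eq_zero_or_pos (rk F) with h2 | h2
    · exact absurd (isZero_of_rk_eq_zero C hFv h2) h0
    · exact h2
  rcases hle.lt_or_eq with h2 | h2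
  · exact h F i hi hFv hpos h2
  · have h3 : ¬ dg k E ≤ dg k F := fun h4 => h1 (isIso_of_mono C i hF (coh_of_vb hE) h2.ge h4)
    rw [h2]
    have h4 : (0 : ℤ) < rk E := by rw [← h2]; exact_mod_cast hpos
    nlinarith

theorem pos_abs {M : X.Modules} (hM : Coh.IsCoh M) (h0 : ¬ IsZero M) : 0 < PP k M := by
  rw [Prod.Lex.lt_iff]
  rcases Nat.eq_zero_or_pos (rk M) with h | h
  · right
    refine ⟨?_, ?_⟩
    · show (0 : ℚ) = (rk M : ℚ)
      rw [h, Nat.cast_zero]
    · show (0 : ℚ) < (dg k M : ℚ)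
      have h1 : ¬ dg k M ≤ 0 := fun h2 =>
        h0 (isZero_of_dg_le_zero k C.dim hM (subsingleton_of_rk_eq_zero hM h) h2)
      exact_mod_cast not_le.1 h1
  · left
    show (0 : ℚ) < (rk M : ℚ)
    exact_mod_cast h

/-- The filtrations of `BunMod.IsJH` are abstract Jordan-Hölder filtrations. -/
theorem isJH_abs {r : ℕ} {d : ℤ} {E : X.Modules} (hr : 0 < r) (hE : FlatMod.IsFinLocFreeOfRank r E)
    (hd : Curv2.deg k X E r = d) {s : LTSeries (Subobject E)} (hs : BunMod.IsJH k X r d E s) :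
    JH2.IsJH (fun M : X.Modules => Coh.IsCoh M) (PP k) al s where
  head := hs.1
  last := hs.2.1
  ok_factor i := by
    obtain ⟨r', h0, h1, h2, h3⟩ := hs.2.2 i
    exact isCoh_of_rank h1
  st i := by
    obtain ⟨r', h0, h1, h2, h3⟩ := hs.2.2 i
    exact st_abs C (isFinLocFree_of_rank h1) ((st_iff h1).2 h2)
  red i := by
    obtain ⟨r', h0, h1, h2, h3⟩ := hs.2.2 i
    rw [← dg_of_rank k h1] at h3
    rw [← dg_of_rank k hE] at hd
    rw [al_PP, al_PP]
    have e1 := rk_of_rank h1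
    have e2 := rk_of_rank hE
    show toLex ((rk E : ℚ) * (rk _ : ℚ), (rk E : ℚ) * (dg k _ : ℚ)) =
      toLex ((rk _ : ℚ) * (rk E : ℚ), (rk _ : ℚ) * (dg k E : ℚ))
    congr 1
    refine Prod.ext (mul_comm _ _) ?_
    show (rk E : ℚ) * (dg k _ : ℚ) = (rk _ : ℚ) * (dg k E : ℚ)
    rw [e1, e2, hd]
    have h4 : ((dg k (StabCat.factor s i) * (r : ℤ) : ℤ) : ℚ) = ((d * (r' : ℤ) : ℤ) : ℚ) := by rw [h3]
    push_cast at h4 ⊢
    linarith

/-- Uniqueness of the graded object. -/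
theorem jordanHolder {r : ℕ} {d : ℤ} {E : X.Modules} (hr : 0 < r) (hE : FlatMod.IsFinLocFreeOfRank r E)
    (hss : ModFun.IsSlopeSemistable k X E r) (hd : Curv2.deg k X E r = d) {s t : LTSeries (Subobject E)}
    (hs : BunMod.IsJH k X r d E s) (ht : BunMod.IsJH k X r d E t) :
    s.length = t.length ∧ Nonempty (StabCat.grObj s ≅ StabCat.grObj t) := by
  refine JH2.jordanHolder (add k) (isCoh_of_rank hE) (ss_abs C (isFinLocFree_of_rank hE) ((ss_iff C hE).2 hss))
    (fun M hM h0 => pos_abs C hM h0) ?_ (isJH_abs C hr hE hd hs) (isJH_abs C hr hE hd ht)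
  rw [al_PP, rk_of_rank hE]
  exact_mod_cast hr.ne'

end K429.JHS
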