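import Mathlib.AlgebraicGeometry.ZariskisMainTheorem
import Mathlib.AlgebraicGeometry.AlgClosed.Basic
import Mathlib.Topology.KrullDimension

/-!
# Dimension of the image of a morphism with finite fibres over closed points
-/

set_option autoImplicit false
universe u

open CategoryTheory AlgebraicGeometry TopologicalSpace Topology

namespace K429.QFin

/-- A morphism of Jacobson schemes, locally of finite type, whose fibres through closed points have finitely many closed
points is locally quasi-finite. -/
theorem locallyQuasiFinite {T M : Scheme.{u}} (f : T ⟶ M) [LocallyOfFiniteType f] [JacobsonSpace T] [JacobsonSpace M]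
    (hfin : ∀ x ∈ closedPoints T, {y : T | y ∈ closedPoints T ∧ f y = f x}.Finite) : LocallyQuasiFinite f := by
  rw [← Scheme.Hom.quasiFiniteLocus_eq_top_iff]
  by_contra hne
  have hZ : IsClosed ((f.quasiFiniteLocus : Set T)ᶜ) := f.quasiFiniteLocus.2.isClosed_compl
  have hZne : ((f.quasiFiniteLocus : Set T)ᶜ).Nonempty := by
    rw [Set.nonempty_compl]
    intro h
    exact hne (Opens.ext h)
  obtain ⟨x, hx1, hx2⟩ := nonempty_inter_closedPoints hZne hZ.isLocallyClosed
  apply hx1
  show f.QuasiFiniteAt x
  rw [Scheme.Hom.quasiFiniteAt_iff_isOpen_singleton_asFiber]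
  have hclosed : IsClosed (f ⁻¹' {f x}) := by
    have h : f x ∈ closedPoints M := f.closePoints_subset_preimage_closedPoints hx2
    exact IsClosed.preimage f.continuous h
  have hfib : (closedPoints (f.fiber (f x))).Finite := by
    refine Set.Finite.of_finite_image (f := f.fiberι (f x)) ((hfin x hx2).subset ?_)
      (f.fiberι (f x)).isEmbedding.injective.injOn
    rintro _ ⟨z, hz, rfl⟩
    refine ⟨?_, ?_⟩
    · have hcl : IsClosedEmbedding (f.fiberι (f x)) := by
        refine ⟨(f.fiberι (f x)).isEmbedding, ?_⟩
        rw [Scheme.Hom.range_fiberι]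
        exact hclosed
      have h := hcl.isClosedMap _ hz
      rwa [Set.image_singleton] at h
    · have h : f.fiberι (f x) z ∈ Set.range (f.fiberι (f x)) := ⟨z, rfl⟩
      rw [Scheme.Hom.range_fiberι] at h
      exact h
  have := JacobsonSpace.discreteTopology hfib
  exact isOpen_discrete _

/-- If `f` is continuous with discrete fibres, `T` sober, and `f` maps into `B`, then `dim T ≤ dim B`. -/
theorem krullDim_le {T M : Type*} [TopologicalSpace T] [TopologicalSpace M] [QuasiSober T] [T0Space M]
    (f : T → M) (hf : Continuous f) (hd : ∀ y, IsDiscrete (f ⁻¹' {y})) (B : Set M) (hB : ∀ x, f x ∈ B) :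
    topologicalKrullDim T ≤ topologicalKrullDim B := by
  let F : T → B := fun x => ⟨f x, hB x⟩
  have hF : Continuous F := hf.subtype_mk _
  refine Order.krullDim_le_of_strictMono (IrreducibleCloseds.map F hF) ?_
  intro Z₁ Z₂ hlt
  refine lt_of_le_of_ne (IrreducibleCloseds.map_mono hF hlt.le) ?_
  intro heq
  obtain ⟨η₁, h₁⟩ := QuasiSober.sober Z₁.isIrreducible Z₁.isClosed
  obtain ⟨η₂, h₂⟩ := QuasiSober.sober Z₂.isIrreducible Z₂.isClosed
  have hcl : ∀ (Z : IrreducibleCloseds T) (η : T), IsGenericPoint η (Z : Set T) →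
      ((IrreducibleCloseds.map F hF Z : IrreducibleCloseds B) : Set B) = closure {F η} := by
    intro Z η hη
    show closure (F '' (Z : Set T)) = closure {F η}
    rw [← hη.def, closure_image_closure hF, Set.image_singleton]
  have h3 : closure {F η₁} = closure {F η₂} := by
    rw [← hcl Z₁ η₁ h₁, ← hcl Z₂ η₂ h₂, heq]
  have h4 : F η₁ = F η₂ := (inseparable_iff_closure_eq.2 h3).eq
  have h5 : f η₁ = f η₂ := congrArg Subtype.val h4
  have h6 : η₂ ⤳ η₁ := by
    rw [specializes_iff_mem_closure, h₂.def]
    exact hlt.le (h₁.mem)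
  have h7 : η₁ = η₂ := by
    have hdisc : DiscreteTopology (f ⁻¹' {f η₂}) := isDiscrete_iff_discreteTopology.1 (hd (f η₂))
    have h8 : (⟨η₂, rfl⟩ : f ⁻¹' {f η₂}) ⤳ ⟨η₁, h5⟩ := by
      rw [← IsInducing.subtypeVal.specializes_iff]
      exact h6
    have h9 := h8.eq
    exact (congrArg Subtype.val h9).symm
  apply hlt.ne
  apply SetLike.coe_injective
  rw [← h₁.def, ← h₂.def, h7]

/-- `dim T ≤ dim B` if all closed points of `T` map to `B`, whose complement is open, and the fibres of `f` are finite on
closed points. -/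
theorem krullDim_le_of_closedPoints {T M : Scheme.{u}} (f : T ⟶ M) [LocallyOfFiniteType f] [JacobsonSpace T]
    [JacobsonSpace M] (hfin : ∀ x ∈ closedPoints T, {y : T | y ∈ closedPoints T ∧ f y = f x}.Finite)
    (B : Set M) (hBc : IsClosed B) (hB : ∀ x ∈ closedPoints T, f x ∈ B) :
    topologicalKrullDim T ≤ topologicalKrullDim B := by
  have := locallyQuasiFinite f hfin
  refine krullDim_le f f.continuous f.isDiscrete_preimage_singleton B fun x => ?_
  have h : closure (closedPoints T) ⊆ f ⁻¹' B :=
    closure_minimal hB (hBc.preimage f.continuous)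
  rw [closure_closedPoints] at h
  exact h (Set.mem_univ x)

end K429.QFin
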