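import Groth.Agent.BunMod.K429.Fam
import Groth.Agent.VBCurve.K658.Stable
import Groth.Agent.CurvesB.HZero
import Groth.Agent.CurvesB.VABaseChange

/-!
# All twists of the fibres of `E₀ ⊕ …` have sections
-/

set_option autoImplicit false
universe u

open CategoryTheory CategoryTheory.Limits AlgebraicGeometry

namespace K429.Sect

open Groth.Agent K757.Fam K757.Geo Groth.Agent.Fdesc.LocGen

theorem not_subsingleton {Y : Scheme.{u}} {F : Y.Modules} (s : Coh.structureModule Y ⟶ F) (hs : s ≠ 0) :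
    ¬ Subsingleton (Coh.HH Y F 0) := by
  intro h
  have h1 : sec s ⊤ = 0 := (CurvesB.HZero.equivAdd F).symm.injective (Subsingleton.elim _ _)
  apply hs
  apply (sec_bijective F).1
  exact h1.trans rfl

/-- Pull-back along an isomorphism is faithful. -/
theorem map_ne_zero {Y X : Scheme.{u}} (ι : Y ⟶ X) [IsIso ι] {A B : X.Modules} (s : A ⟶ B) (hs : s ≠ 0) :
    (Scheme.Modules.pullback ι).map s ≠ 0 := by
  intro h
  have h1 : (Scheme.Modules.pullback ι ⋙ Scheme.Modules.pullback (inv ι)).map s = 0 := by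
    rw [Functor.comp_map, h]
    exact (Scheme.Modules.pullback (inv ι)).map_zero _ _
  let e : Scheme.Modules.pullback ι ⋙ Scheme.Modules.pullback (inv ι) ≅ 𝟭 _ :=
    Scheme.Modules.pullbackComp (inv ι) ι ≪≫ Scheme.Modules.pullbackCongr (IsIso.inv_hom_id ι) ≪≫
      Scheme.Modules.pullbackId X
  apply hs
  have h2 := e.hom.naturality s
  rw [h1, zero_comp] at h2
  have h3 : s = e.inv.app A ≫ e.hom.app A ≫ (𝟭 X.Modules).map s := by
    rw [← Category.assoc, ← NatTrans.comp_app, e.inv_hom_id]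
    simp
  rw [h3, ← h2, comp_zero]

theorem exists_down {Y X : Scheme.{u}} (ι : Y ⟶ X) [IsIso ι] (F : Y.Modules) :
    ∃ E : X.Modules, Nonempty ((Scheme.Modules.pullback ι).obj E ≅ F) :=
  ⟨(Scheme.Modules.pullback (inv ι)).obj F, ⟨(Scheme.Modules.pullbackComp ι (inv ι)).app F ≪≫
    (Scheme.Modules.pullbackCongr (IsIso.hom_inv_id ι)).app F ≪≫ (Scheme.Modules.pullbackId Y).app F⟩⟩

theorem exists_down_inv {Y X : Scheme.{u}} (ι : Y ⟶ X) [IsIso ι] {F : Y.Modules} (hF : PicF.IsInvertible F) :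
    ∃ E : X.Modules, PicF.IsInvertible E ∧ Nonempty ((Scheme.Modules.pullback ι).obj E ≅ F) :=
  ⟨(Scheme.Modules.pullback (inv ι)).obj F, inv_pull _ hF, ⟨(Scheme.Modules.pullbackComp ι (inv ι)).app F ≪≫
    (Scheme.Modules.pullbackCongr (IsIso.hom_inv_id ι)).app F ≪≫ (Scheme.Modules.pullbackId Y).app F⟩⟩

section mono

open MonoidalCategory
open scoped Groth.Agent.Dcoh.MonCat

theorem tens_mono {Y : Scheme.{u}} {A B : Y.Modules} (i : A ⟶ B) (hi : IsSplitMono i) (L N : Y.Modules) :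
    ∃ j : CohB1.tensorMod (CohB1.tensorMod A L) N ⟶ CohB1.tensorMod (CohB1.tensorMod B L) N, Mono j := by
  let F : Y.Modules ⥤ Y.Modules := tensorRight L ⋙ tensorRight N
  have h : IsSplitMono (F.map i) := inferInstance
  have hm : Mono (F.map i) := inferInstance
  exact ⟨F.map i, hm⟩

end mono

variable {k : Type u} [Field k] [IsAlgClosed k] {X : Scheme.{u}} [X.Over (Spec (CommRingCat.of k))]
  [IsProper (X ↘ Spec (CommRingCat.of k))] [Smooth (X ↘ Spec (CommRingCat.of k))]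
  [GeometricallyConnected (X ↘ Spec (CommRingCat.of k))]

/-- Sections of all twists. -/
theorem exists_sec [IsIntegral X] (hdim : topologicalKrullDim X = 1) {E₀ : X.Modules} (hE₀ : K658.NoSec.HasSec k hdim E₀)
    (g : ℕ) (hg : Curv2.genus k X = g) {N : X.Modules} (hN : PicF.IsInvertible N)
    (hNdeg : Curv2.deg k X N 1 = (g : ℤ) - 1)
    {E' L : (PicF.XT (X ↘ Spec (CommRingCat.of k)) (Over.mk (𝟙 (Spec (CommRingCat.of k))))).Modules}
    (i : cst (X ↘ Spec (CommRingCat.of k)) (Over.mk (𝟙 (Spec (CommRingCat.of k)))) E₀ ⟶ E') (hi : IsSplitMono i)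
    (hL : (ModFun.PicDeg (X ↘ Spec (CommRingCat.of k)) 0).ok (Over.mk (𝟙 (Spec (CommRingCat.of k)))) L) :
    ¬ Subsingleton (Coh.HH (PicF.XT (X ↘ Spec (CommRingCat.of k)) (Over.mk (𝟙 (Spec (CommRingCat.of k)))))
      (CohB1.tensorMod (CohB1.tensorMod E' L)
        ((Scheme.Modules.pullback (pullback.fst (X ↘ Spec (CommRingCat.of k)) (𝟙 (Spec (CommRingCat.of k))))).obj N)) 0) := by
  let f := X ↘ Spec (CommRingCat.of k)
  let p : Over (Spec (CommRingCat.of k)) := Over.mk (𝟙 (Spec (CommRingCat.of k)))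
  let ι : PicF.XT f p ⟶ X := pullback.fst f (𝟙 (Spec (CommRingCat.of k)))
  have hι : IsIso ι := inferInstanceAs (IsIso (pullback.fst f (𝟙 (Spec (CommRingCat.of k)))))
  let _ : (PicF.XT f p).Over (Spec (CommRingCat.of k)) := ⟨PicF.XTproj f p⟩
  obtain ⟨hLi, hLd⟩ := picDeg_ok_iff.1 hL
  obtain ⟨L', hL', ⟨eL⟩⟩ := exists_down_inv ι hLi
  have hdL : Curv2.deg k X L' 1 = 0 := by
    have h3 : Spec.map (CommRingCat.ofHom (algebraMap k k)) = 𝟙 (Spec (CommRingCat.of k)) := Spec.map_id _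
    have H : IsPullback ι (PicF.XT f p ↘ Spec (CommRingCat.of k)) (X ↘ Spec (CommRingCat.of k))
        (Spec.map (CommRingCat.ofHom (algebraMap k k))) := by
      rw [h3]
      exact IsPullback.of_hasPullback f (𝟙 (Spec (CommRingCat.of k)))
    have h4 := CurvesB.VABaseChange.deg_eq (k := k) (K := k) H L' (Ega2.QCohLocal.isQCoh_of_isInvertible hL') 1
    have h5 := (fibDeg_iff.1 hLd) k (𝟙 (Spec (CommRingCat.of k))) (𝟙 p)
    rw [deg_congr (pl_id f L)] at h5
    rw [← h4, deg_congr ⟨eL⟩, h5]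
  -- the section downstairs
  have hLN := inv_tens hL' hN
  have hdeg : (K658.NoSec.Cd k hdim).deg (Additive.ofMul (Grpsch.PicGrp.mk _ hLN)) =
      ((K658.NoSec.Cd k hdim).g : ℤ) - 1 := by
    have h1 : Additive.ofMul (Grpsch.PicGrp.mk _ hLN) =
        Additive.ofMul (Grpsch.PicGrp.mk L' hL') + Additive.ofMul (Grpsch.PicGrp.mk N hN) := by
      rw [← Grpsch.PicGrp.mk_mul_mk hL' hN]; rfl
    rw [h1, map_add, K658.NoSec.deg_cls, K658.NoSec.deg_cls,
      K707.Deg.dg_of_rank k (K707.TensL.rank_one_iff.mpr hL'), K707.Deg.dg_of_rank k (K707.TensL.rank_one_iff.mpr hN),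
      hdL, hNdeg, zero_add, ← hg]
    rfl
  have h1 := hE₀ _ hdeg
  rw [K658.NoSec.noSec_iff E₀ hLN] at h1
  push Not at h1
  obtain ⟨s, hs⟩ := h1
  have hs' := map_ne_zero ι s hs
  -- transport
  obtain ⟨e0⟩ := pull_unit ι
  obtain ⟨e1⟩ := pull_tens ι E₀ (CohB1.tensorMod L' N)
  obtain ⟨e2⟩ := pull_tens ι L' N
  obtain ⟨e3⟩ := tens_congr ⟨eL⟩ ⟨Iso.refl ((Scheme.Modules.pullback ι).obj N)⟩
  obtain ⟨e4⟩ := tens_congr ⟨Iso.refl ((Scheme.Modules.pullback ι).obj E₀)⟩ ⟨e2 ≪≫ e3⟩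
  obtain ⟨e5⟩ := tens_assoc ((Scheme.Modules.pullback ι).obj E₀) L ((Scheme.Modules.pullback ι).obj N)
  let σ : Coh.structureModule (PicF.XT f p) ⟶ CohB1.tensorMod (CohB1.tensorMod ((Scheme.Modules.pullback ι).obj E₀) L)
      ((Scheme.Modules.pullback ι).obj N) :=
    e0.inv ≫ (Scheme.Modules.pullback ι).map s ≫ (e1 ≪≫ e4 ≪≫ e5.symm).hom
  have hσ : σ ≠ 0 := by
    intro h0
    apply hs'
    have h2 : (Scheme.Modules.pullback ι).map s = e0.hom ≫ σ ≫ (e1 ≪≫ e4 ≪≫ e5.symm).inv := by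
      simp [σ]
    rw [h2, h0, zero_comp, comp_zero]
  obtain ⟨j, hj⟩ : ∃ j : CohB1.tensorMod (CohB1.tensorMod ((Scheme.Modules.pullback ι).obj E₀) L)
      ((Scheme.Modules.pullback ι).obj N) ⟶ CohB1.tensorMod (CohB1.tensorMod E' L)
      ((Scheme.Modules.pullback ι).obj N), Mono j := tens_mono i hi L ((Scheme.Modules.pullback ι).obj N)
  refine not_subsingleton (σ ≫ j) fun h0 => hσ ?_
  rw [← cancel_mono j, h0, zero_comp]

end K429.Sect
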