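import Groth.Agent.AbSch.K449.CanSec
import Groth.Agent.AbVar.K518.Sec
import Groth.Agent.Desc.K390.PnSec
import Groth.Agent.Ega2.BlowBasic
import Groth.Agent.Ega2.AmpleWeight
import Groth.Agent.Ega2.SecCalc

/-!
# The theta section, and sections that die on `{x} × J`
-/

set_option autoImplicit false
universe u

open CategoryTheory CategoryTheory.Limits AlgebraicGeometry TopologicalSpace

namespace K429.ThetaSec

open Groth.Agent Groth.Agent.Fdesc.LocGen

theorem homOf_sec {W : Scheme.{u}} {M : W.Modules} (s : Coh.structureModule W ⟶ M) : homOf (sec s ⊤) = s := by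
  apply (sec_bijective M).1
  show sec (homOf (sec s ⊤)) ⊤ = sec s ⊤
  rw [sec_homOf, res_refl]

theorem homOf_zero {W : Scheme.{u}} {M : W.Modules} : homOf (0 : Γ(M, ⊤)) = 0 := by
  apply (sec_bijective M).1
  show sec (homOf (0 : Γ(M, ⊤))) ⊤ = sec (0 : Coh.structureModule W ⟶ M) ⊤
  rw [sec_homOf, res_refl]
  rfl

theorem isInv_of_iso {W : Scheme.{u}} {L M : W.Modules} (e : L ≅ M) (h : PicF.IsInvertible L) :
    PicF.IsInvertible M := fun x => by
  obtain ⟨U, hx, ⟨a⟩⟩ := h x
  exact ⟨U, hx, ⟨(Scheme.Modules.restrictFunctor U.ι).mapIso e.symm ≪≫ a⟩⟩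

/-- The canonical section of an inverse of the ideal of a closed subset. -/
theorem exists_section {M : Scheme.{u}} [Nonempty M] {Z : Closeds M} {Θ : M.Modules}
    (h : ClSub.IsInverseOf Θ (ClSub.idealMod (Scheme.IdealSheafData.vanishingIdeal Z))) :
    ∃ s : Γ(Θ, ⊤), s ≠ 0 ∧ ∀ x ∈ Z, x ∉ CohB1.genLocus Θ (homOf s) := by
  obtain ⟨s, hs⟩ := K449.CanSec.exists_section h
  have hsupp : ((Scheme.IdealSheafData.vanishingIdeal Z).support : Set M) = Z :=
    Scheme.IdealSheafData.coe_support_vanishingIdeal Z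
  have hho : homOf (sec s ⊤) = s := homOf_sec s
  refine ⟨sec s ⊤, ?_, fun x hx => ?_⟩
  · intro h0
    have h1 : s = 0 := by
      rw [← hho, h0]
      exact homOf_zero
    rw [h1, K518.Sec.genLocus_eq_bot_of_eq_zero] at hs
    have hI := Dix.IdealModCartier.isEffCartierIdeal_of_isInverseOf h
    obtain ⟨x, hx⟩ := (Groth.Agent.Ega2.BlowBasic.dense_offSupport hI).nonempty
    have hx' : x ∈ (((Scheme.IdealSheafData.vanishingIdeal Z).support : Set M))ᶜ := hx
    rw [← hs] at hx'
    exact hx'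
  · rw [hho]
    intro hx'
    have h2 : x ∈ (CohB1.genLocus Θ s : Set M) := hx'
    rw [hs, hsupp] at h2
    exact h2 hx

/-- A section of an invertible module dies on a reduced Jacobson scheme if it vanishes at the images of closed points. -/
theorem pullSec_eq_zero {J Y M : Scheme.{u}} (y : J ⟶ Y) (q : Y ⟶ M) [IsReduced J] [JacobsonSpace J]
    {Θ : M.Modules} (hΘ : PicF.IsInvertible Θ) (s : Γ(Θ, ⊤))
    (h : ∀ j ∈ closedPoints J, q (y j) ∉ CohB1.genLocus Θ (homOf s)) : pullTop y (pullTop q s) = 0 := by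
  have h1 := K390.PnSec.genLocus_pullTop q hΘ s
  have h2 := K390.PnSec.genLocus_pullTop y (isInvertible_pullback q hΘ) (pullTop q s)
  have h3 : CohB1.genLocus _ (homOf (pullTop y (pullTop q s))) = ⊥ := by
    rw [h2, h1, eq_bot_iff]
    intro j hj
    obtain ⟨j', hj'1, hj'2⟩ := nonempty_inter_closedPoints
      (Z := ((y ⁻¹ᵁ (q ⁻¹ᵁ (CohB1.genLocus Θ (homOf s))) : J.Opens) : Set J)) ⟨j, hj⟩
      (y ⁻¹ᵁ (q ⁻¹ᵁ (CohB1.genLocus Θ (homOf s)))).2.isLocallyClosed
    exact absurd hj'1 (h j' hj'2)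
  have h4 := K518.Sec.eq_zero_of_genLocus_eq_bot (isInvertible_pullback y (isInvertible_pullback q hΘ)) _ h3
  have h5 : sec (homOf (pullTop y (pullTop q s))) ⊤ = sec (homOf (0 : Γ((Scheme.Modules.pullback y).obj
      ((Scheme.Modules.pullback q).obj Θ), ⊤))) ⊤ := by rw [h4, homOf_zero]
  rw [sec_homOf, res_refl, sec_homOf, res_refl] at h5
  exact h5

/-- If all sections of `q^*F ≅ a^*A ⊗ b^*B` die on `Z` then all sections of `A` vanish at the points of `Z` above a
point where some section of `B` does not vanish. -/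
theorem notMem_genLocus {Z Y U V : Scheme.{u}} (y : Z ⟶ Y) (a : Y ⟶ U) (b : Y ⟶ V) {G : Y.Modules}
    {A : U.Modules} {B : V.Modules} (hA : PicF.IsInvertible A) (hB : PicF.IsInvertible B)
    (e : Nonempty (G ≅ CohB1.tensorMod ((Scheme.Modules.pullback a).obj A) ((Scheme.Modules.pullback b).obj B)))
    (hG : ∀ t : Γ(G, ⊤), pullTop y t = 0) (s : Coh.structureModule U ⟶ A) (t : Coh.structureModule V ⟶ B) (z : Z)
    (hz : b (y z) ∈ CohB1.genLocus B t) : a (y z) ∉ CohB1.genLocus A s := by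
  obtain ⟨e⟩ := e
  intro hz'
  have hho : ∀ {W : Scheme.{u}} {M : W.Modules} (s : Coh.structureModule W ⟶ M), homOf (sec s ⊤) = s :=
    fun s => homOf_sec s
  have hGi : PicF.IsInvertible G := isInv_of_iso e.symm
    (isInvertible_tensorMod (isInvertible_pullback a hA) (isInvertible_pullback b hB))
  let s' : Coh.structureModule Y ⟶ (Scheme.Modules.pullback a).obj A := homOf (pullTop a (sec s ⊤))
  let t' : Coh.structureModule Y ⟶ (Scheme.Modules.pullback b).obj B := homOf (pullTop b (sec t ⊤))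
  have hs' : y z ∈ CohB1.genLocus _ s' := by
    have h1 := K390.PnSec.genLocus_pullTop a hA (sec s ⊤)
    rw [hho] at h1
    show y z ∈ CohB1.genLocus _ (homOf (pullTop a (sec s ⊤)))
    rw [h1]
    exact hz'
  have ht' : y z ∈ CohB1.genLocus _ t' := by
    have h1 := K390.PnSec.genLocus_pullTop b hB (sec t ⊤)
    rw [hho] at h1
    show y z ∈ CohB1.genLocus _ (homOf (pullTop b (sec t ⊤)))
    rw [h1]
    exact hz
  have hst : y z ∈ CohB1.genLocus G (Groth.Agent.Ega2.Weight.tmulHom s' t' ≫ e.inv) := by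
    rw [Groth.Agent.Ega2.SecCalc.genLocus_comp, Groth.Agent.Ega2.Weight.genLocus_tmulHom
      (isInvertible_pullback a hA) (isInvertible_pullback b hB)]
    exact ⟨hs', ht'⟩
  have h2 := K390.PnSec.genLocus_pullTop y hGi (sec (Groth.Agent.Ega2.Weight.tmulHom s' t' ≫ e.inv) ⊤)
  rw [hG, hho] at h2
  have h3 : z ∈ CohB1.genLocus ((Scheme.Modules.pullback y).obj G) (homOf 0) := by
    rw [h2]
    exact hst
  have h4 : homOf (0 : Γ((Scheme.Modules.pullback y).obj G, ⊤)) = 0 := homOf_zero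
  rw [h4, K518.Sec.genLocus_eq_bot_of_eq_zero] at h3
  exact h3

end K429.ThetaSec
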