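import Groth.Agent.AbVar.K512.IsogSplit
import Groth.Agent.AbVar.K518.Phi
import Groth.Agent.Grpsch.MulFinFlat
import Groth.Agent.Sga67.CohBasic
import Groth.Agent.Ega2.QCohLocal
import Groth.Agent.Localalg.CartierSch

/-!
# `[r]^* [r]_* (L^n) ≅ (L^n)^w` for `r ∣ n`
-/

set_option autoImplicit false
set_option linter.unusedSectionVars false
universe u

open CategoryTheory CategoryTheory.Limits MonoidalCategory CartesianMonoidalCategory MonObj GrpObj
  AlgebraicGeometry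
open Groth.Agent.Grpsch.PicGrp Groth.Agent.Grpsch.Cube K518.Phi
open Groth.Agent.Fdesc.LocGen (isInvertible_tensorPow isInvertible_pullback)

namespace K429.Trans

variable {k : Type u} [Field k] [IsAlgClosed k] {J : Over (Spec (CommRingCat.of k))} [GrpObj J]
  [IsProper J.hom] [GeometricallyIntegral J.hom]

/-- The kernel of multiplication by `r` fixes `c^n` for `r ∣ n`. -/
theorem pl_tr_pow (c : Pic J.left) (r n : ℕ) (hrn : r ∣ n) (a : 𝟙_ (Over (Spec (CommRingCat.of k))) ⟶ J)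
    (ha : a ≫ ((𝟙 J : J ⟶ J) ^ r) = 1) : pl (tr a) (c ^ n) = c ^ n := by
  obtain ⟨m, rfl⟩ := hrn
  have h1 : a ^ r = 1 := by
    rw [← ha, MonObj.comp_pow, Category.comp_id]
  rw [pl_tr, phi_pow_left, pow_mul, ← phi_pow, h1, phi_one, one_pow, _root_.one_mul]

theorem nonempty_tr (L : J.left.Modules) (hL : PicF.IsInvertible L) (r n : ℕ) (hrn : r ∣ n)
    {F : J.left.Modules} (hF : Nonempty (F ≅ CohB1.tensorPow L n))
    (a : 𝟙_ (Over (Spec (CommRingCat.of k))) ⟶ J) (ha : a ≫ ((𝟙 J : J ⟶ J) ^ r) = 1) :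
    Nonempty ((Scheme.Modules.pullback (𝟙 J * (toUnit J ≫ a)).left).obj F ≅ CohB1.tensorPow L n) := by
  obtain ⟨i⟩ := hF
  have h1 := pl_tr_pow (mk L hL) r n hrn a ha
  rw [← mk_tensorPow hL n, show pl (tr a) (mk (CohB1.tensorPow L n) (isInvertible_tensorPow hL n)) =
    mk ((Scheme.Modules.pullback (tr a).left).obj (CohB1.tensorPow L n)) (isInvertible_pullback _
      (isInvertible_tensorPow hL n)) from rfl, mk_eq_iff] at h1
  obtain ⟨j⟩ := h1
  exact ⟨(Scheme.Modules.pullback (tr a).left).mapIso i ≪≫ j⟩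

variable [CharZero k]

/-- The kernel of an isogeny has finitely many points. -/
theorem finite_ker (r : ℕ) (hr : 1 ≤ r) :
    Finite {a : 𝟙_ (Over (Spec (CommRingCat.of k))) ⟶ J // a ≫ ((𝟙 J : J ⟶ J) ^ r) = 1} := by
  have hfin : IsFinite ((𝟙 J : J ⟶ J) ^ r).left :=
    (Groth.Agent.Grpsch.MulFinFlat.isFinite_flat_surjective k J r hr).1
  have hcomm : IsCommMonObj J := isCommMonObj_of_isProper_of_geometricallyIntegral J
  have hmon : IsMonHom ((𝟙 J : J ⟶ J) ^ r) := Groth.Agent.Grpsch.MulFinFlat.isMonHom_id_pow k J r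
  obtain ⟨N, hN, i, hi, hker⟩ := Groth.Agent.Grpsch.KerMul.exists_kernel ((𝟙 J : J ⟶ J) ^ r)
  have hker' : IsPullback i.left (toUnit N).left ((𝟙 J : J ⟶ J) ^ r).left
      (η[J] : 𝟙_ (Over (Spec (CommRingCat.of k))) ⟶ J).left := hker.map (Over.forget _)
  have hNf0 : IsFinite (toUnit N).left := MorphismProperty.of_isPullback (P := @IsFinite) hker' inferInstance
  have hNf : IsFinite N.hom := by
    have h : (toUnit N).left = N.hom := (Category.comp_id _).symm.trans (Over.w (toUnit N))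
    rwa [h] at hNf0
  have hNs : Smooth N.hom := by
    let _ : GrpObj (Over.mk N.hom) := hN
    exact Groth.Agent.Localalg.CartierSch.smooth_of_grpObj_of_charZero N.hom
  have hNe : Etale N.hom := K776.SmoothLqf.etale_of_smooth_of_locallyQuasiFinite N.hom
  have hfin : Finite (𝟙_ (Over (Spec (CommRingCat.of k))) ⟶ N) := K512.IsogSplit.finite_pts
  refine Finite.of_injective (fun a => hker.lift a.1 (toUnit _) (by rw [a.2]; rfl) :
    {a : 𝟙_ (Over (Spec (CommRingCat.of k))) ⟶ J // a ≫ ((𝟙 J : J ⟶ J) ^ r) = 1} →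
      (𝟙_ (Over (Spec (CommRingCat.of k))) ⟶ N)) fun a b hab => ?_
  apply Subtype.ext
  have h1 := congrArg (· ≫ i) hab
  simpa using h1

/-- `[r]^* [r]_* F ≅ (L^n)^w` if `F ≅ L^n` and `r ∣ n`. -/
theorem exists_iso (L : J.left.Modules) (hL : PicF.IsInvertible L) (r n : ℕ) (hr : 1 ≤ r) (hrn : r ∣ n)
    {F : J.left.Modules} (hF : Nonempty (F ≅ CohB1.tensorPow L n)) :
    ∃ w : ℕ, Nonempty ((Scheme.Modules.pullback ((𝟙 J : J ⟶ J) ^ r).left).obj
      ((Scheme.Modules.pushforward ((𝟙 J : J ⟶ J) ^ r).left).obj F) ≅ ∐ fun _ : Fin w => CohB1.tensorPow L n) := by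
  have hfin : IsFinite ((𝟙 J : J ⟶ J) ^ r).left :=
    (Groth.Agent.Grpsch.MulFinFlat.isFinite_flat_surjective k J r hr).1
  have hcomm : IsCommMonObj J := isCommMonObj_of_isProper_of_geometricallyIntegral J
  have hmon : IsMonHom ((𝟙 J : J ⟶ J) ^ r) := Groth.Agent.Grpsch.MulFinFlat.isMonHom_id_pow k J r
  have hq : F.IsQuasicoherent := by
    obtain ⟨i⟩ := hF
    exact Groth.Agent.Sga67.CohBasic.isQCoh_of_iso i.symm
      (Groth.Agent.Ega2.QCohLocal.isQCoh_of_isInvertible (isInvertible_tensorPow hL n))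
  obtain ⟨e⟩ := K512.IsogSplit.nonempty_iso ((𝟙 J : J ⟶ J) ^ r) F
  have hfi := finite_ker (J := J) r hr
  obtain ⟨w, ⟨σ⟩⟩ := Finite.exists_equiv_fin {a : 𝟙_ (Over (Spec (CommRingCat.of k))) ⟶ J // a ≫ ((𝟙 J : J ⟶ J) ^ r) = 1}
  refine ⟨w, ⟨e ≪≫ Sigma.whiskerEquiv σ fun a => ?_⟩⟩
  exact (nonempty_tr L hL r n hrn hF a.1 a.2).some.symm

end K429.Trans
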