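import Groth.Agent.BunMod.K429.Core
import Groth.Agent.BunMod.K429.Trans
import Groth.Agent.BunMod.K429.ThetaSec
import Groth.Agent.BunMod.K596.Iface
import Groth.Agent.VBCurve.K703.Scalar
import Groth.Agent.BunMod.K429.H0
import Groth.Agent.S0086
import Groth.Agent.Sga2.PnCoprod
import Groth.Agent.Dcoh.FinLocFree
import Groth.Agent.PerfA.CohSerre
import Groth.Agent.S2249
import Groth.Agent.PerfA.QCohSerre
import Groth.Agent.Desc.FinLocFreeSections

/-!
# Base points of all translates of theta are base points of the determinant line bundle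
-/

set_option autoImplicit false
set_option linter.unusedSectionVars false
universe u

open CategoryTheory CategoryTheory.Limits MonoidalCategory CartesianMonoidalCategory MonObj GrpObj
  AlgebraicGeometry
open Groth.Agent Groth.Agent.Grpsch.PicGrp Groth.Agent.Grpsch.Cube K518.Phi Groth.Agent.BunMod.K596
  Groth.Agent.Fdesc.LocGen K429.H0

namespace K429.SpanBase

variable {k : Type u} [Field k] {g r : ℕ} {M J : Over (Spec (CommRingCat.of k))} [GrpObj J] {dm : M ⟶ J}
  {Θ : M.left.Modules} {L : J.left.Modules}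

theorem isPullback_left (S : Str r dm Θ L) :
    IsPullback S.q.left (snd S.M₀ J).left dm.left ((𝟙 J : J ⟶ J) ^ r).left :=
  S.sq.map (Over.forget _)

variable [IsAlgClosed k]

/-- `x × J`. -/
noncomputable abbrev sl {M₀ : Over (Spec (CommRingCat.of k))} (x : 𝟙_ (Over (Spec (CommRingCat.of k))) ⟶ M₀) :
    J ⟶ M₀ ⊗ J := lift (toUnit J ≫ x) (𝟙 J)

omit [IsAlgClosed k] in
theorem isProper_dm [IsAlgClosed k] [IsProper J.hom] [GeometricallyIntegral J.hom] (S : Str r dm Θ L) (hr : 1 ≤ r) :
    IsProper dm.left := by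
  obtain ⟨h1, h2, h3⟩ := Groth.Agent.Grpsch.MulFinFlat.isFinite_flat_surjective k J r hr
  have h4 := isPullback_left S
  have h5 : IsProper (snd S.M₀ J).left := by
    have h := S.proper
    show IsProper (pullback.snd S.M₀.hom J.hom)
    infer_instance
  exact Groth.Agent.S0086.result.of_isPullback h4.flip ⟨⟨h3, h2⟩, inferInstance⟩ h5

/-- Scalars as endomorphisms of an invertible module. -/
theorem exists_scalars [IsProper J.hom] [GeometricallyIntegral J.hom] {N : J.left.Modules}
    (hN : PicF.IsInvertible N) : ∃ σ : k →+* End N, Function.Surjective σ := by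
  let _ : J.left.Over (Spec (CommRingCat.of k)) := ⟨J.hom⟩
  have hint : IsIntegral J.left := GeometricallyIntegral.isIntegral_of_subsingleton J.hom
  have : IsProper (J.left ↘ Spec (CommRingCat.of k)) := inferInstanceAs (IsProper J.hom)
  refine ⟨algebraMap k (End N), fun f => ?_⟩
  obtain ⟨c, hc⟩ := K703.Scalar.end_scalar (k := k) hN f
  exact ⟨c, by rw [hc]; rfl⟩

/-- The restriction of `q^* Θ` to `x × J`. -/
theorem nonempty_restrict (S : Str r dm Θ L) (hL : PicF.IsInvertible L) (hΘ : PicF.IsInvertible Θ)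
    (x : 𝟙_ (Over (Spec (CommRingCat.of k))) ⟶ S.M₀) :
    Nonempty ((Scheme.Modules.pullback (sl (J := J) x).left).obj ((Scheme.Modules.pullback S.q.left).obj Θ) ≅
      CohB1.tensorPow L r) := by
  have hA := S.inv
  have hLr : PicF.IsInvertible (CohB1.tensorPow L r) := isInvertible_tensorPow hL r
  have h1 : pl (sl (J := J) x) (pl S.q (mk Θ hΘ)) = mk L hL ^ r := by
    have h2 : pl S.q (mk Θ hΘ) = pl (fst S.M₀ J) (mk S.A hA) * pl (snd S.M₀ J) (mk (CohB1.tensorPow L r) hLr) := by
      obtain ⟨e⟩ := S.iso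
      exact mk_congr e
    rw [h2, map_mul, ← pl_comp, ← pl_comp, lift_fst, lift_snd, pl_const, pl_id, _root_.one_mul, mk_tensorPow]
  rw [← mk_tensorPow hL r] at h1
  exact (mk_eq_iff _ _).1 h1

/-- Push forward of the pull back along a section. -/
theorem nonempty_push (S : Str r dm Θ L) (hL : PicF.IsInvertible L) (hΘ : PicF.IsInvertible Θ)
    (x : 𝟙_ (Over (Spec (CommRingCat.of k))) ⟶ S.M₀) :
    Nonempty ((Scheme.Modules.pushforward (snd S.M₀ J).left).obj ((Scheme.Modules.pushforward (sl (J := J) x).left).obj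
      ((Scheme.Modules.pullback (sl (J := J) x).left).obj ((Scheme.Modules.pullback S.q.left).obj Θ))) ≅
      CohB1.tensorPow L (r * 1)) := by
  obtain ⟨e⟩ := nonempty_restrict S hL hΘ x
  have h : (sl (J := J) x).left ≫ (snd S.M₀ J).left = 𝟙 J.left := by
    rw [← Over.comp_left, lift_snd]
    rfl
  refine ⟨(Scheme.Modules.pushforwardComp (sl (J := J) x).left (snd S.M₀ J).left).app _ ≪≫
    (Scheme.Modules.pushforwardCongr h).app _ ≪≫ (Scheme.Modules.pushforwardId J.left).app _ ≪≫ e ≪≫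
    eqToIso (by rw [_root_.mul_one])⟩

variable [CharZero k]

/-- **Base points.**  If the theta section dies on `x × J` (that is, `x` is a base point of all `θ_{N ξ}`), then `x` is
a base point of `A`. -/
theorem span (hr : 1 ≤ r) (hP : PPAV g J L) (S : Str r dm Θ L) (hΘ : PicF.IsInvertible Θ) {v : ℕ}
    (hV : VerD J L r 1 v ((Scheme.Modules.pushforward dm.left).obj Θ))
    (hF : ∀ (n : ℕ) (E : J.left.Modules), VerD J L r 1 n E → h0 E * r ^ g = n)
    (h1 : h0 Θ = 1) (s : Γ(Θ, ⊤)) (hs : s ≠ 0) (x : 𝟙_ (Over (Spec (CommRingCat.of k))) ⟶ S.M₀)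
    (hsx : pullTop (sl (J := J) x).left (pullTop S.q.left s) = 0) (a : Coh.structureModule S.M₀.left ⟶ S.A) :
    x.left (IsLocalRing.closedPoint k) ∉ CohB1.genLocus S.A a := by
  have hprop := hP.proper
  have hgint := hP.gint
  have hL := hP.inv
  have hint : IsIntegral J.left := GeometricallyIntegral.isIntegral_of_subsingleton J.hom
  obtain ⟨hfin, hflat, hsurj⟩ := Groth.Agent.Grpsch.MulFinFlat.isFinite_flat_surjective k J r hr
  have hdm := isProper_dm S hr
  have H := isPullback_left S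
  have hN : PicF.IsInvertible (CohB1.tensorPow L (r * 1)) := isInvertible_tensorPow hL _
  obtain ⟨σ, hσ⟩ := exists_scalars (k := k) hN
  have hΘq : Coh.IsQCoh Θ := Groth.Agent.Ega2.QCohLocal.isQCoh_of_isInvertible hΘ
  obtain ⟨eP⟩ := nonempty_push S hL hΘ x
  have hq1 : Coh.IsQCoh ((Scheme.Modules.pushforward dm.left).obj Θ) := Groth.Agent.S2249.result dm.left Θ
  have hq2 : Coh.IsQCoh ((Scheme.Modules.pushforward (snd S.M₀ J).left).obj
      ((Scheme.Modules.pushforward (sl (J := J) x).left).obj ((Scheme.Modules.pullback (sl (J := J) x).left).obj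
        ((Scheme.Modules.pullback S.q.left).obj Θ)))) :=
    Groth.Agent.Sga67.CohBasic.isQCoh_of_iso eP.symm (Groth.Agent.Ega2.QCohLocal.isQCoh_of_isInvertible hN)
  have hq3 : Coh.IsQCoh ((Scheme.Modules.pushforward ((𝟙 J : J ⟶ J) ^ r).left).obj
      ((Scheme.Modules.pushforward (snd S.M₀ J).left).obj
      ((Scheme.Modules.pushforward (sl (J := J) x).left).obj ((Scheme.Modules.pullback (sl (J := J) x).left).obj
        ((Scheme.Modules.pullback S.q.left).obj Θ))))) := Groth.Agent.S2249.result ((𝟙 J : J ⟶ J) ^ r).left _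
  obtain ⟨w, hw⟩ := K429.Trans.exists_iso L hL r (r * 1) hr ⟨1, rfl⟩ ⟨eP⟩
  have hE1 : h0 (T := J) ((Scheme.Modules.pushforward dm.left).obj Θ) = 1 := (h0_push dm Θ).trans h1
  have hcount : ∀ n : ℕ, 0 < n → n ≤ v →
      Nonempty ((Scheme.Modules.pullback ((𝟙 J : J ⟶ J) ^ r).left).obj (kernel (K429.EvalMap.e dm.left
        ((𝟙 J : J ⟶ J) ^ r).left S.q.left (snd S.M₀ J).left (sl (J := J) x).left H.w Θ)) ≅
        ∐ fun _ : Fin n => CohB1.tensorPow L (r * 1)) → n = v := by
    intro n hn0 hnv hK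
    have hKq := Groth.Agent.PerfA.QCohSerre.isQCoh_kernel (K429.EvalMap.e dm.left
        ((𝟙 J : J ⟶ J) ^ r).left S.q.left (snd S.M₀ J).left (sl (J := J) x).left H.w Θ) hq1 hq3
    have hNlf : FlatMod.IsFinLocFree (CohB1.tensorPow L (r * 1)) := fun y => by
      obtain ⟨U, hU, e⟩ := Groth.Agent.Ega2.QCohLocal.isFinLocFreeOfRank_one_iff.2 hN y
      exact ⟨U, 1, hU, e⟩
    have hlf : FlatMod.IsFinLocFree (∐ fun _ : Fin n => CohB1.tensorPow L (r * 1)) :=
      Groth.Agent.Sga2.PnCoprod.isFinLocFree_coproduct _ fun _ => hNlf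
    have hKlf := Groth.Agent.Desc.FinLocFreeSections.isFinLocFree_of_pullback ((𝟙 J : J ⟶ J) ^ r).left _ hKq
      (Groth.Agent.Dcoh.FinLocFree.isFinLocFree_of_iso hK.some.symm hlf)
    have hVK : VerD J L r 1 n (kernel (K429.EvalMap.e dm.left
        ((𝟙 J : J ⟶ J) ^ r).left S.q.left (snd S.M₀ J).left (sl (J := J) x).left H.w Θ)) := ⟨hKlf, hn0, hK⟩
    have h2 := hF _ _ hVK
    have h3 := hF _ _ hV
    have hle : h0 (T := J) (kernel (K429.EvalMap.e dm.left
        ((𝟙 J : J ⟶ J) ^ r).left S.q.left (snd S.M₀ J).left (sl (J := J) x).left H.w Θ)) ≤ 1 := by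
      have h := h0_le_of_mono (T := J) (Groth.Agent.PerfA.CohSerre.isCoh_of_isFinLocFree hV.locFree)
        (kernel.ι (K429.EvalMap.e dm.left ((𝟙 J : J ⟶ J) ^ r).left S.q.left (snd S.M₀ J).left
          (sl (J := J) x).left H.w Θ))
      exact h.trans hE1.le
    rw [hE1, _root_.one_mul] at h3
    have h4 : h0 (T := J) (kernel (K429.EvalMap.e dm.left
        ((𝟙 J : J ⟶ J) ^ r).left S.q.left (snd S.M₀ J).left (sl (J := J) x).left H.w Θ)) = 1 := by
      refine le_antisymm hle (Nat.one_le_iff_ne_zero.2 fun h5 => ?_)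
      rw [h5, zero_mul] at h2
      exact hn0.ne h2
    rw [h4, _root_.one_mul] at h2
    exact h2.symm.trans h3
  have hall : ∀ t : Γ((Scheme.Modules.pullback S.q.left).obj Θ, ⊤), pullTop (sl (J := J) x).left t = 0 :=
    fun t => K429.Core.core (sl (J := J) x).left H hΘq σ hσ hV.iso hw hcount s hs hsx t
  -- a nonzero section of `L^r`
  obtain ⟨b, hb⟩ : ∃ b : Coh.structureModule J.left ⟶ CohB1.tensorPow L r, b ≠ 0 := by
    refine exists_ne_zero (T := J) ?_
    have h := hP.h0 r hr
    show 0 < @Module.finrank k (Coh.HH J.left (CohB1.tensorPow L r) 0) _ _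
      (@Coh.moduleOver k _ J.left ⟨J.hom⟩ (CohB1.tensorPow L r) 0)
    rw [h]
    exact Nat.pow_pos hr
  have hb' : CohB1.genLocus _ b ≠ ⊥ := fun h => hb (K518.Sec.eq_zero_of_genLocus_eq_bot (isInvertible_tensorPow hL r) b h)
  obtain ⟨z, hz⟩ : ∃ z : J.left, z ∈ CohB1.genLocus _ b := by
    by_contra hcon
    push Not at hcon
    exact hb' (by ext z; simpa using hcon z)
  have h3 : (snd S.M₀ J).left ((sl (J := J) x).left z) = z := by
    rw [← Scheme.Hom.comp_apply, ← Over.comp_left, lift_snd]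
    rfl
  have h4 : (fst S.M₀ J).left ((sl (J := J) x).left z) = x.left (IsLocalRing.closedPoint k) := by
    rw [← Scheme.Hom.comp_apply, ← Over.comp_left, lift_fst, Over.comp_left, Scheme.Hom.comp_apply]
    congr 1
    exact Subsingleton.elim (α := PrimeSpectrum k) _ _
  have h5 := K429.ThetaSec.notMem_genLocus (sl (J := J) x).left (fst S.M₀ J).left (snd S.M₀ J).left S.inv
    (isInvertible_tensorPow hL r) S.iso hall a b z (by rw [h3]; exact hz)
  rwa [h4] at h5

end K429.SpanBase
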