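import Groth.Agent.BunMod.K429.FibFin
import Groth.Agent.BunMod.K429.Sect
import Groth.Agent.BunMod.K429.SpanBase
import Groth.Agent.BunMod.K429.QFin

/-!
# The base locus of the determinant line bundle is large
-/

set_option autoImplicit false
universe u

open CategoryTheory CategoryTheory.Limits AlgebraicGeometry MonoidalCategory CartesianMonoidalCategory MonObj

namespace K429.Main

open Groth.Agent K757.Fam K757.Geo K757.TwistUSS K429.Fam K429.FibFin Groth.Agent.BunMod.K596 K429.H0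
  Groth.Agent.Fdesc.LocGen K429.SpanBase

/-- The base locus is closed. -/
theorem isClosed_base {M : Scheme.{u}} (Θ : M.Modules) :
    IsClosed {x : M | ∀ s : Coh.structureModule M ⟶ Θ, x ∉ CohB1.genLocus Θ s} := by
  have h : {x : M | ∀ s : Coh.structureModule M ⟶ Θ, x ∉ CohB1.genLocus Θ s} =
      ⋂ s : Coh.structureModule M ⟶ Θ, ((CohB1.genLocus Θ s : Set M))ᶜ := by
    ext x
    simp
  rw [h]
  exact isClosed_iInter fun s => (CohB1.genLocus Θ s).2.isClosed_compl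

/-- Transport of base points along an isomorphism. -/
theorem notMem_of_iso {Y M : Scheme.{u}} (e : Y ⟶ M) {Θ : M.Modules} (hΘ : PicF.IsInvertible Θ) {A : Y.Modules}
    (eA : Nonempty (A ≅ (Scheme.Modules.pullback e).obj Θ)) (y : Y)
    (h : ∀ a : Coh.structureModule Y ⟶ A, y ∉ CohB1.genLocus A a) (s : Coh.structureModule M ⟶ Θ) :
    e y ∉ CohB1.genLocus Θ s := by
  obtain ⟨eA⟩ := eA
  intro hy
  apply h (homOf (pullTop e (sec s ⊤)) ≫ eA.inv)
  rw [Groth.Agent.Ega2.SecCalc.genLocus_comp, K390.PnSec.genLocus_pullTop e hΘ, ThetaSec.homOf_sec]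
  exact hy

section

variable {k : Type u} [Field k] [IsAlgClosed k] [CharZero k] {X : Scheme.{u}} [X.Over (Spec (CommRingCat.of k))]
  [IsIntegral X] [IsProper (X ↘ Spec (CommRingCat.of k))] [Smooth (X ↘ Spec (CommRingCat.of k))]
  [GeometricallyConnected (X ↘ Spec (CommRingCat.of k))] (hdim : topologicalKrullDim X = 1)
  (g : ℕ) (hg : Curv2.genus k X = g) {N : X.Modules} (hN : PicF.IsInvertible N)
  (hNdeg : Curv2.deg k X N 1 = (g : ℤ) - 1)

include hg hN hNdeg

/-- The `k`-points of `M'` given by bundles with a "good" direct summand are base points. -/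
theorem notMem_base {E₀ : X.Modules} (hE₀ : K658.NoSec.HasSec k hdim E₀) (r : ℕ) (hr : 1 ≤ r)
    {J : Over (Spec (CommRingCat.of k))} [GrpObj J] [IsCommMonObj J]
    {ψ : (ModFun.PicDeg (X ↘ Spec (CommRingCat.of k)) 0).Hom ⊤ J}
    (FJ : FineJ (X ↘ Spec (CommRingCat.of k)) J ψ) {ΘJ : J.left.Modules} (hP : PPAV g J ΘJ)
    {M : Over (Spec (CommRingCat.of k))} {φ : (BunMod.USS (X ↘ Spec (CommRingCat.of k)) r 0).Hom ⊤ M}
    {Θ : M.left.Modules} (hΘ : BunMod.IsThetaLB (X ↘ Spec (CommRingCat.of k))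
      (BunMod.ussOK (X ↘ Spec (CommRingCat.of k)) r 0) φ N Θ) {dm : M ⟶ J}
    {M' : Over (Spec (CommRingCat.of k))}
    {φ' : (BunMod.USSdet (X ↘ Spec (CommRingCat.of k)) r (Coh.structureModule X)).Hom ⊤ M'}
    {Θ' : M'.left.Modules} (hΘ' : PicF.IsInvertible Θ') (S : Str r dm Θ ΘJ) (e : S.M₀ ≅ M')
    (eA : Nonempty (S.A ≅ (Scheme.Modules.pullback e.hom.left).obj Θ'))
    (hq : ∀ (T : Over (Spec (CommRingCat.of k))) (E L : (PicF.XT (X ↘ Spec (CommRingCat.of k)) T).Modules)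
        (hE : (BunMod.USSdet (X ↘ Spec (CommRingCat.of k)) r (Coh.structureModule X)).ok T E)
        (hL : (ModFun.PicDeg (X ↘ Spec (CommRingCat.of k)) 0).ok T L)
        (hEL : (BunMod.USS (X ↘ Spec (CommRingCat.of k)) r 0).ok T (CohB1.tensorMod E L)),
        lift (φ'.app T E trivial hE ≫ e.inv) (ψ.app T L trivial hL) ≫ S.q =
          φ.app T (CohB1.tensorMod E L) trivial hEL)
    {v : ℕ} (hV : VerD J ΘJ r 1 v ((Scheme.Modules.pushforward dm.left).obj Θ))
    (hF : ∀ (n : ℕ) (E : J.left.Modules), VerD J ΘJ r 1 n E → h0 E * r ^ g = n) (h1 : h0 Θ = 1)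
    (hth : ∀ (E : (PicF.XT (X ↘ Spec (CommRingCat.of k)) (Over.mk (𝟙 (Spec (CommRingCat.of k))))).Modules)
      (hE : (BunMod.USS (X ↘ Spec (CommRingCat.of k)) r 0).ok (Over.mk (𝟙 (Spec (CommRingCat.of k)))) E),
      ¬ Subsingleton (Coh.HH (PicF.XT (X ↘ Spec (CommRingCat.of k)) (Over.mk (𝟙 (Spec (CommRingCat.of k)))))
        (CohB1.tensorMod E ((Scheme.Modules.pullback (pullback.fst (X ↘ Spec (CommRingCat.of k))
          (𝟙 (Spec (CommRingCat.of k))))).obj N)) 0) →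
      (φ.app _ E trivial hE).left (IsLocalRing.closedPoint k) ∈
        BunMod.thetaLocus (X ↘ Spec (CommRingCat.of k)) (BunMod.ussOK (X ↘ Spec (CommRingCat.of k)) r 0) φ N)
    (E : (PicF.XT (X ↘ Spec (CommRingCat.of k)) (Over.mk (𝟙 (Spec (CommRingCat.of k))))).Modules)
    (hE : (BunMod.USSdet (X ↘ Spec (CommRingCat.of k)) r (Coh.structureModule X)).ok
      (Over.mk (𝟙 (Spec (CommRingCat.of k)))) E)
    (i : cst (X ↘ Spec (CommRingCat.of k)) (Over.mk (𝟙 (Spec (CommRingCat.of k)))) E₀ ⟶ E) (hi : IsSplitMono i)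
    (s' : Coh.structureModule M'.left ⟶ Θ') :
    (φ'.app _ E trivial hE).left (IsLocalRing.closedPoint k) ∉ CohB1.genLocus Θ' s' := by
  have hprop := hP.proper
  have hgint := hP.gint
  have hJint : IsIntegral J.left := GeometricallyIntegral.isIntegral_of_subsingleton J.hom
  have hJac : JacobsonSpace J.left := LocallyOfFiniteType.jacobsonSpace J.hom
  let x₀ : 𝟙_ (Over (Spec (CommRingCat.of k))) ⟶ S.M₀ := φ'.app _ E trivial hE ≫ e.inv
  have hne : Nonempty M.left := ⟨(lift x₀ (η[J] : 𝟙_ (Over (Spec (CommRingCat.of k))) ⟶ J) ≫ S.q).left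
    (IsLocalRing.closedPoint k)⟩
  obtain ⟨s, hs, hsZ⟩ := ThetaSec.exists_section hΘ.2
  have hdie : pullTop (sl (J := J) x₀).left (pullTop S.q.left s) = 0 := by
    refine ThetaSec.pullSec_eq_zero (sl (J := J) x₀).left S.q.left hΘ.1 s fun j hj => ?_
    obtain ⟨y, rfl⟩ := exists_point J hj
    have hL := FJ.ok_at y
    have hE1 := ((K757.DetM0.ussDet_ok_iff hdim).1 hE).1
    have hEL : (BunMod.USS (X ↘ Spec (CommRingCat.of k)) r 0).ok (Over.mk (𝟙 (Spec (CommRingCat.of k))))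
        (CohB1.tensorMod E (FJ.at' y)) := by
      have h := ussOK_tw hdim hE1.2 hL
      rw [mul_zero, add_zero] at h
      exact ⟨trivial, h⟩
    have h2 := hq _ E (FJ.at' y) hE hL hEL
    rw [FJ.psi_at] at h2
    have h3 : y ≫ sl (J := J) x₀ = lift x₀ y := by
      have h5 : y ≫ toUnit J = 𝟙 _ := toUnit_unique _ _
      rw [comp_lift, ← Category.assoc, h5, Category.id_comp, Category.comp_id]
    have h8 : (y ≫ sl (J := J) x₀) ≫ S.q = φ.app _ (CohB1.tensorMod E (FJ.at' y)) trivial hEL :=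
      (congrArg (fun w => w ≫ S.q) h3).trans h2
    have h4 : S.q.left ((sl (J := J) x₀).left (y.left (IsLocalRing.closedPoint k))) =
        (φ.app _ (CohB1.tensorMod E (FJ.at' y)) trivial hEL).left (IsLocalRing.closedPoint k) :=
      congrArg (fun w : Over.mk (𝟙 (Spec (CommRingCat.of k))) ⟶ M => w.left (IsLocalRing.closedPoint k)) h8
    intro h9
    refine hsZ _ (hth _ hEL (Sect.exists_sec hdim hE₀ g hg hN hNdeg i hi hL)) ?_
    exact h4 ▸ h9
  have hspan := SpanBase.span hr hP S hΘ.1 hV hF h1 s hs x₀ hdie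
  have h6 := notMem_of_iso e.hom.left hΘ' eA _ hspan s'
  have h10 : x₀ ≫ e.hom = φ'.app _ E trivial hE :=
    (Category.assoc _ _ _).trans ((congrArg (fun w => φ'.app _ E trivial hE ≫ w) e.inv_hom_id).trans
      (Category.comp_id _))
  have h7 : e.hom.left (x₀.left (IsLocalRing.closedPoint k)) =
      (φ'.app _ E trivial hE).left (IsLocalRing.closedPoint k) :=
    congrArg (fun w : Over.mk (𝟙 (Spec (CommRingCat.of k))) ⟶ M' => w.left (IsLocalRing.closedPoint k)) h10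
  intro h11
  exact h6 (h7.symm ▸ h11)

theorem dim_ge {E₀ : X.Modules} (hE₀ : K658.Stable.Good k hdim E₀) (n r : ℕ)
    (hr : Groth.Agent.VarietyA.DegRank.rk E₀ + n + 1 = r)
    {J : Over (Spec (CommRingCat.of k))} [GrpObj J] [IsCommMonObj J]
    {ψ : (ModFun.PicDeg (X ↘ Spec (CommRingCat.of k)) 0).Hom ⊤ J}
    (FJ : FineJ (X ↘ Spec (CommRingCat.of k)) J ψ) {ΘJ : J.left.Modules} (hP : PPAV g J ΘJ)
    {M : Over (Spec (CommRingCat.of k))} {φ : (BunMod.USS (X ↘ Spec (CommRingCat.of k)) r 0).Hom ⊤ M}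
    {Θ : M.left.Modules} (hΘ : BunMod.IsThetaLB (X ↘ Spec (CommRingCat.of k))
      (BunMod.ussOK (X ↘ Spec (CommRingCat.of k)) r 0) φ N Θ) {dm : M ⟶ J}
    {M' : Over (Spec (CommRingCat.of k))}
    {φ' : (BunMod.USSdet (X ↘ Spec (CommRingCat.of k)) r (Coh.structureModule X)).Hom ⊤ M'}
    (hM' : BunMod.IsModSSdet (X ↘ Spec (CommRingCat.of k)) ⊤ r (Coh.structureModule X) M' φ')
    {Θ' : M'.left.Modules} (hΘ' : PicF.IsInvertible Θ') (S : Str r dm Θ ΘJ) (e : S.M₀ ≅ M')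
    (eA : Nonempty (S.A ≅ (Scheme.Modules.pullback e.hom.left).obj Θ'))
    (hq : ∀ (T : Over (Spec (CommRingCat.of k))) (E L : (PicF.XT (X ↘ Spec (CommRingCat.of k)) T).Modules)
        (hE : (BunMod.USSdet (X ↘ Spec (CommRingCat.of k)) r (Coh.structureModule X)).ok T E)
        (hL : (ModFun.PicDeg (X ↘ Spec (CommRingCat.of k)) 0).ok T L)
        (hEL : (BunMod.USS (X ↘ Spec (CommRingCat.of k)) r 0).ok T (CohB1.tensorMod E L)),
        lift (φ'.app T E trivial hE ≫ e.inv) (ψ.app T L trivial hL) ≫ S.q =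
          φ.app T (CohB1.tensorMod E L) trivial hEL)
    {v : ℕ} (hV : VerD J ΘJ r 1 v ((Scheme.Modules.pushforward dm.left).obj Θ))
    (hF : ∀ (n : ℕ) (E : J.left.Modules), VerD J ΘJ r 1 n E → h0 E * r ^ g = n) (h1 : h0 Θ = 1)
    (hth : ∀ (E : (PicF.XT (X ↘ Spec (CommRingCat.of k)) (Over.mk (𝟙 (Spec (CommRingCat.of k))))).Modules)
      (hE : (BunMod.USS (X ↘ Spec (CommRingCat.of k)) r 0).ok (Over.mk (𝟙 (Spec (CommRingCat.of k)))) E),
      ¬ Subsingleton (Coh.HH (PicF.XT (X ↘ Spec (CommRingCat.of k)) (Over.mk (𝟙 (Spec (CommRingCat.of k)))))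
        (CohB1.tensorMod E ((Scheme.Modules.pullback (pullback.fst (X ↘ Spec (CommRingCat.of k))
          (𝟙 (Spec (CommRingCat.of k))))).obj N)) 0) →
      (φ.app _ E trivial hE).left (IsLocalRing.closedPoint k) ∈
        BunMod.thetaLocus (X ↘ Spec (CommRingCat.of k)) (BunMod.ussOK (X ↘ Spec (CommRingCat.of k)) r 0) φ N) :
    ((n * g : ℕ) : WithBot ℕ∞) ≤
      topologicalKrullDim {x : ↥M'.left // ∀ s : Coh.structureModule M'.left ⟶ Θ', x ∉ CohB1.genLocus Θ' s} := by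
  subst hr
  have hprop := hP.proper
  have hM₀p := S.proper
  have C : K707.Base.Crv k X := K707.Base.Crv.of_smooth hdim
  -- the family
  have hE₀r := K707.Base.isFinLocFreeOfRank_rk hE₀.vb
  have hd : Curv2.deg k X E₀ (Groth.Agent.VarietyA.DegRank.rk E₀) = 0 := by
    rw [← K707.Deg.dg_of_rank k hE₀r]
    exact hE₀.dg
  have hW := Fam.ussOK_W hdim hE₀.pos hE₀r hd ((K707.Semi.ss_iff C hE₀r).1 hE₀.ss) FJ.ok n
  obtain ⟨D, -, hdet⟩ := Fam.exists_detInv hdim hW
  let E : (PicF.XT (X ↘ Spec (CommRingCat.of k)) (TT J n)).Modules :=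
    (W (X ↘ Spec (CommRingCat.of k)) FJ.P E₀ n ⊞ D : (PicF.XT (X ↘ Spec (CommRingCat.of k)) (TT J n)).Modules)
  have hE : (BunMod.USSdet (X ↘ Spec (CommRingCat.of k)) (Groth.Agent.VarietyA.DegRank.rk E₀ + n + 1)
      (Coh.structureModule X)).ok (TT J n) E := ⟨trivial, hdet⟩
  have hlft : LocallyOfFiniteType (TT J n).hom := lft J n
  have hM'lft : LocallyOfFiniteType M'.hom := by
    have h : e.inv.left ≫ S.M₀.hom = M'.hom := Over.w e.inv
    rw [← h]
    infer_instance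
  have hj1 : JacobsonSpace (TT J n).left := LocallyOfFiniteType.jacobsonSpace (TT J n).hom
  have hj2 : JacobsonSpace M'.left := LocallyOfFiniteType.jacobsonSpace M'.hom
  have hulft : LocallyOfFiniteType (φ'.app (TT J n) E trivial hE).left := by
    have h : (φ'.app (TT J n) E trivial hE).left ≫ M'.hom = (TT J n).hom := Over.w _
    have : LocallyOfFiniteType ((φ'.app (TT J n) E trivial hE).left ≫ M'.hom) := by rw [h]; exact hlft
    exact locallyOfFiniteType_of_comp _ M'.hom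
  have hi : IsSplitMono (biprod.inl : W (X ↘ Spec (CommRingCat.of k)) FJ.P E₀ n ⟶ E) := inferInstance
  have hfin := finite_closedPoints hdim FJ (Nat.succ_pos _) hM' hE (biprod.inl) hi
  rw [← dim_TT J hP.dim n]
  refine QFin.krullDim_le_of_closedPoints (φ'.app (TT J n) E trivial hE).left hfin
    {x | ∀ s : Coh.structureModule M'.left ⟶ Θ', x ∉ CohB1.genLocus Θ' s} (isClosed_base Θ') ?_
  intro x hx
  obtain ⟨t, rfl⟩ := exists_point (TT J n) hx
  intro s'
  have hEt : (BunMod.USSdet (X ↘ Spec (CommRingCat.of k)) (Groth.Agent.VarietyA.DegRank.rk E₀ + n + 1)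
      (Coh.structureModule X)).ok _ (pl (X ↘ Spec (CommRingCat.of k)) t E) :=
    ⟨trivial, K757.DetM0.ussDetOK_pull t hdet⟩
  have hnat := φ'.natural t E trivial trivial hE hEt
  obtain ⟨j, hj⟩ := exists_splitMono (X ↘ Spec (CommRingCat.of k)) FJ.P E₀ n t
  have hi' : IsSplitMono ((Scheme.Modules.pullback (PicF.XTmap (X ↘ Spec (CommRingCat.of k)) t)).map
    (biprod.inl : W (X ↘ Spec (CommRingCat.of k)) FJ.P E₀ n ⟶ E)) := inferInstance
  have h := notMem_base hdim g hg hN hNdeg hE₀.sec _ (Nat.succ_pos _) FJ hP hΘ hΘ' S e eA hq hV hF h1 hth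
    (pl (X ↘ Spec (CommRingCat.of k)) t E) hEt (j ≫ (Scheme.Modules.pullback (PicF.XTmap
      (X ↘ Spec (CommRingCat.of k)) t)).map (biprod.inl : W (X ↘ Spec (CommRingCat.of k)) FJ.P E₀ n ⟶ E))
      inferInstance s'
  have h8 : (φ'.app _ (pl (X ↘ Spec (CommRingCat.of k)) t E) trivial hEt).left (IsLocalRing.closedPoint k) =
      (φ'.app (TT J n) E trivial hE).left (t.left (IsLocalRing.closedPoint k)) :=
    congrArg (fun w : Over.mk (𝟙 (Spec (CommRingCat.of k))) ⟶ M' => w.left (IsLocalRing.closedPoint k)) hnat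
  intro h9
  exact h (h8.symm ▸ h9)

end

end K429.Main
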