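import Groth.Agent.BunMod.K562.Jump

/-!
# Bundles with sections lie on the theta locus
-/

set_option autoImplicit false
universe u

open CategoryTheory CategoryTheory.Limits AlgebraicGeometry

namespace K429.Th

open K140.BM K562.Jump

variable {k : Type u} [Field k] {X : Scheme.{u}} [X.Over (Spec (CommRingCat.of k))]
  {Q : ∀ T : Over (B0 k), (ModFun.modProb (st k X)).Fam T → Prop}

/-- A family over a geometric point with a section after twisting is mapped to the theta locus. -/
theorem mem_thetaLocus (A : AtlasC k X Q) {N : X.Modules} {P : ObjectProperty (Over (B0 k))}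
    (φ : ((ModFun.modProb (st k X)).restrict Q).Hom P A.M) (hP : ∀ T, P T) (hφ : IsQuot A φ)
    (hQ : ∀ {T : Over (B0 k)} (c : T ⟶ A.Z), Q T (pl k X c A.E)) (hs : SuppCond A N)
    (hd : ((thetaIdeal k N A.Z A.E).support : Set A.Z.left) ⊆
      closure (stab A ∩ ((thetaIdeal k N A.Z A.E).support : Set A.Z.left)))
    {Ω : Type u} [Field Ω] [IsAlgClosed Ω] (t : Spec (CommRingCat.of Ω) ⟶ B0 k)
    (E : (PicF.XT (st k X) (Over.mk t)).Modules) (hE : ((ModFun.modProb (st k X)).restrict Q).ok (Over.mk t) E)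
    (hPt : P (Over.mk t)) (hsec : SecAt N Ω t E) (p : (Over.mk t).left) :
    (φ.app (Over.mk t) E hPt hE).left p ∈ BunMod.thetaLocus (st k X) Q φ N := by
  obtain ⟨c, ⟨e⟩⟩ := exists_point A t E hE.2
  have h1 := φ.resp (pl k X c A.E) E hPt ⟨trivial, hQ c⟩ hE (r_of_iso (st k X) e)
  rw [hφ _ _ c ⟨trivial, hQ c⟩] at h1
  rw [← h1]
  have h2 := closure_jumpLocus A N φ hP hφ hQ hs hd
  show _ ∈ closure (BunMod.jumpLocus (st k X) Q φ N)
  rw [h2]
  exact subset_closure ⟨c.left p, (hs Ω t c p).2 (hsec.of_iso e.symm), rfl⟩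

end K429.Th
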