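import Groth.Agent.BunMod.K429.Final
import Groth.Agent.BunMod.K429.Th
import Groth.Agent.BunMod.K28.Inputs
import Groth.Agent.BunMod.K28.R1Main
import Groth.Agent.BunMod.K356.ThetaBest
import Groth.Agent.BunMod.K562.ThetaAt
import Groth.Agent.BunMod.K670.Row2
import Groth.Agent.BunMod.K325.ZInt
import Groth.Agent.BunMod.K957.ThetaLBJ
import Groth.Agent.BunMod.K479.DetMapEx

/-!
# The base locus on `SU_X(r)`: the row
-/

set_option autoImplicit false
universe u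

open CategoryTheory CategoryTheory.Limits AlgebraicGeometry MonoidalCategory CartesianMonoidalCategory MonObj

namespace K429.Row660

open Groth.Agent Groth.Agent.BunMod.K596 K429.H0 K140.BM

variable (k : Type u) [Field k] [IsAlgClosed k] [CharZero k]
  (X : Scheme.{u}) [X.Over (Spec (CommRingCat.of k))]
  [IsProper (X ↘ Spec (CommRingCat.of k))] [Smooth (X ↘ Spec (CommRingCat.of k))]
  [GeometricallyConnected (X ↘ Spec (CommRingCat.of k))] (hdim : topologicalKrullDim ↥X = 1)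
  (g : ℕ) (hg : Curv2.genus k X = g) (hg2 : 2 ≤ g) (N : X.Modules) (hN : PicF.IsInvertible N)
  (hNdeg : Curv2.deg k X N 1 = (g : ℤ) - 1)
  (J : Over (Spec (CommRingCat.of k))) [GrpObj J] [IsCommMonObj J]
  (ψ : (ModFun.PicDeg (X ↘ Spec (CommRingCat.of k)) 0).Hom ⊤ J)
  (hJ : Jac.IsJacobian (X ↘ Spec (CommRingCat.of k)) ⊤ J ψ) (ΘJ : J.left.Modules)
  (hΘJ : Jac.IsThetaLB (X ↘ Spec (CommRingCat.of k)) 0 ψ N ΘJ)

include hdim hg hg2 hN hNdeg hJ hΘJ

theorem hasU (r : ℕ) (hr : 2 ≤ r) (M' : Over (Spec (CommRingCat.of k)))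
      (φ' : (BunMod.USSdet (X ↘ Spec (CommRingCat.of k)) r (Coh.structureModule X)).Hom ⊤ M')
      (hM' : BunMod.IsModSSdet (X ↘ Spec (CommRingCat.of k)) ⊤ r (Coh.structureModule X) M' φ')
      (hne' : ∀ (Ω : Type u) [Field Ω] [IsAlgClosed Ω] (t : Spec (CommRingCat.of Ω) ⟶ Spec (CommRingCat.of k)),
          Nonempty (Over.mk t ⟶ M'))
      (Θ' : M'.left.Modules) (hΘ' : BunMod.IsThetaLB (X ↘ Spec (CommRingCat.of k))
          (BunMod.ussDetOK (X ↘ Spec (CommRingCat.of k)) r (Coh.structureModule X)) φ' N Θ') :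
    K429.Final.HasU k X N J ψ ΘJ r M' φ' Θ' := by
  have hr1 : 1 ≤ r := by omega
  have hNd : Curv2.deg k X N 1 = (Curv2.genus k X : ℤ) - 1 := by rw [hg]; exact hNdeg
  have hg2' : 2 ≤ Curv2.genus k X := by omega
  have hO : PicF.IsInvertible (Coh.structureModule X) := Groth.Agent.BunMod.K356.FamForm.isInv_unit X
  have hO0 : Curv2.deg k X (Coh.structureModule X) 1 = 0 := by
    rw [Curv2.deg]
    push_cast
    ring
  obtain ⟨A, hl, hsm⟩ := exists_atlasC_lift (k := k) (X := X) hdim hr1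
  obtain ⟨A', hl', hsm'⟩ := exists_atlasC_det_lift (k := k) (X := X) hdim hr1 hO hO0
  have hQp : ∀ {T T' : Over (B0 k)} (c : T' ⟶ T) (F : (PicF.XT (st k X) T).Modules),
      BunMod.ussOK (st k X) r 0 T F → BunMod.ussOK (st k X) r 0 T' (K757.Fam.pl (st k X) c F) :=
    fun c _ h => K757.Geo.ussOK_pull c h
  let φ : (BunMod.USS (st k X) r 0).Hom ⊤ A.M := K757.FromAtlas.phi (K757.Uni.toAtlas A)
  have hU : K757.HomOver.UnivBest φ := K757.Uni.univBest' A hQp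
  have hM : ModFun.IsBestApprox ⊤ (BunMod.USS (st k X) r 0) A.M φ := hU.best
  have F := K562.ThetaAt.facts_uss hdim hg2' hN hNd (by omega : 0 < r) A hl
  have hG : Groth.Agent.BunMod.K356.ThetaBest.Good φ N :=
    Groth.Agent.BunMod.K356.ThetaBest.uss hdim hN hNd hr1
      (fun B hs hB => (K562.ThetaAt.facts_uss hdim hg2' hN hNd (by omega : 0 < r) B hB).dens) hM
  have hG' : Groth.Agent.BunMod.K356.ThetaBest.Good φ' N :=
    Groth.Agent.BunMod.K356.ThetaBest.ussdet hdim hN hNd hr hO hO0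
      (fun B hs hB => (K562.ThetaAt.facts_ussDet hdim hg2' hN hNd hr hO hO0 B hB).dens) hM'.2.1
  obtain ⟨Θ, hΘi, hΘv⟩ := Groth.Agent.BunMod.K957.ThetaLBJ.exists_inv hG.eff
  have hΘ : BunMod.IsThetaLB (X ↘ Spec (CommRingCat.of k))
      (BunMod.ussOK (X ↘ Spec (CommRingCat.of k)) r 0) φ N Θ := ⟨hΘi, hΘv⟩
  obtain ⟨dm, hdm⟩ := K479.DetMapEx.exists_isDetMap hdim φ hM ψ
  have hI := K28.Inputs.inp_uss (r := r) hdim ⟨A⟩
  have hI' := K28.Inputs.inp_ussdet (r := r) hdim hr1 hO ⟨A'⟩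
  have hne : Nonempty (K518.Phi.Pt A.M) := by
    obtain ⟨n, rfl⟩ : ∃ n, r = n + 1 := ⟨r - 1, by omega⟩
    have h := K28.B1.ok_ds (k := k) (X := X) hdim n (𝟙_ (Over (B0 k)))
    exact ⟨φ.app _ _ trivial ⟨trivial, K757.SubDet.ussOK_of_det hdim hO hO0 h.2⟩⟩
  obtain ⟨S, e, i, hi, ⟨a⟩, hf⟩ := K28.Final.exists_str_of_det_one hdim hr1 hN hI hM hG.fam hne hΘ hI' hM'.2.1
    (hne' k (𝟙 _)) hJ (K28.R1Main.main hdim hJ hN hNd) hΘJ hdm
  obtain ⟨b⟩ := K28.Final.theta_restrict hdim hG.fam hΘ hO hO0 hI' hM'.2.1 hG'.fam hΘ' i hi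
  refine ⟨A.M, φ, Θ, dm, S, e, hΘ, ?_, ?_, ⟨a ≪≫ (Scheme.Modules.pullback e.hom.left).mapIso b⟩, hf⟩
  · exact K670.Row2.main hdim hg hr hN hNdeg A (K325.ZInt.isIntegral_Z hdim hr1 A)
      (K325.ZInt.isIntegral_M hdim hr1 A) φ hM hG.fam hG.eff Θ hΘ
  · intro E hE hsec
    exact K429.Th.mem_thetaLocus A φ (fun _ => trivial)
      (fun T _ c h => K757.FromAtlas.phi_E (K757.Uni.toAtlas A) c h) (fun c => K757.Geo.ussOK_pull c A.ok) F.supp F.dens
      (𝟙 _) E hE trivial hsec _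

end K429.Row660
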