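import Groth.Agent.BunMod.K242.Row34
import Groth.Agent.BunMod.K231.AvPic
import Groth.Agent.BunMod.K231.Mul
import Groth.Agent.BunMod.K808.Verl
import Groth.Agent.BunMod.K596.F1

/-!
# The row `S16926` from the numerical strange duality

`(J, L)` a symmetric principally polarised abelian variety, `[r]^* E₁ ≅ (L^(r m))^v₁`, `[m]^* E₂ ≅ (L^(m r))^v₂`.

* `exists_iso_pos` : `[r]^* FM(E₂) ≅ ((L^(m r))^∨)^n`, `n = h^0(J, E₂)`.
* `verD_tensor`    : `E₁ ⊗ L` satisfies `VerD` with `m + r`; `h0_tensor` : `h^0(J, E₁ ⊗ L) r^g = v₁ (m + r)^g`.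
* `row`            : `[r]^* E₁^∨ ≅ [r]^* FM(E₂)` if `h^0(J, E₁ ⊗ L) = h^0(J, E₂ ⊗ L)`.
* `row_str`        : the row `S16926` from `Str` and `h^0(M₁, Θ₁^m ⊗ d₁^* L) = h^0(M₂, Θ₂^r ⊗ d₂^* L)`.
-/

set_option autoImplicit false
universe u

open CategoryTheory CategoryTheory.Limits MonoidalCategory CartesianMonoidalCategory MonObj GrpObj
  AlgebraicGeometry

namespace K429.SdRow

open Groth.Agent Groth.Agent.Grpsch Groth.Agent.Grpsch.PicGrp Groth.Agent.Grpsch.Cube K242.Der K242.Cls K242.Trans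
open Groth.Agent.BunMod.K596

variable {k : Type u} [Field k] {J : Over (Spec (CommRingCat.of k))} [GrpObj J] {L : J.left.Modules} {g : ℕ}

section pos

variable [IsAlgClosed k] [CharZero k]

/-- `[r]^* T_0(E) ≅ ((L^(m r))^∨)^n`, `n = h^0(J, E)`, for `[m]^* E ≅ (L^(m r))^v`. -/
theorem exists_iso_pos (hJ : PPAV g J L) [IsCommMonObj J]
    (φJ : AgPol.DualMap J J) (hsd : Jac.IsSelfDual Scheme.fppfPrecoverage J φJ L)
    (P : (pullback J.hom J.hom).Modules) (hP : PicF.IsInvertible P) (hPP : AbDual.IsPoincareCl J J φJ (PicF.cl P))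
    [HasInjectiveResolutions (pullback J.hom J.hom).Modules]
    {r m v : ℕ} (hr : 1 ≤ r) (hm : 1 ≤ m) {E : J.left.Modules} (hE : VerD J L m r v E) :
    Nonempty ((Scheme.Modules.pullback ((𝟙 J) ^ r : J ⟶ J).left).obj
      ((Coh.Rpush (pullback.snd J.hom J.hom) 0).obj
        (CohB1.tensorMod ((Scheme.Modules.pullback (pullback.fst J.hom J.hom)).obj E) P)) ≅
      ∐ fun _ : Fin (@Module.finrank k (Coh.HH J.left E 0) _ _ (@Coh.moduleOver k _ J.left ⟨J.hom⟩ E 0)) =>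
        RefHull.dual (CohB1.tensorPow L (m * r))) := by
  have i1 := hJ.proper
  have i2 := hJ.smooth
  have i3 := hJ.gconn
  have i4 := hJ.gint
  have hL := hJ.inv
  have hint : IsIntegral J.left := GeometricallyIntegral.isIntegral_of_subsingleton J.hom
  have i5 := MulFin.isFinite_pow J m hm
  have i6 := MulFin.flat_pow J m hm
  have i7 := MulFin.surjective_pow J m hm
  have hmr : 1 ≤ m * r := Nat.mul_pos hm hr
  have i5' := MulFin.isFinite_pow J (m * r) hmr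
  have i6' := MulFin.flat_pow J (m * r) hmr
  let _ : J.left.Over (Spec (CommRingCat.of k)) := ⟨J.hom⟩
  have i8 : IsProper (J.left ↘ Spec (CommRingCat.of k)) := inferInstanceAs (IsProper J.hom)
  have i9 : IsNoetherian J.left := VarietyA.TwistExist.isNoetherian k J.left
  set B := CohB1.tensorPow L (m * r) with hBdef
  have hBi : PicF.IsInvertible B := Fdesc.LocGen.isInvertible_tensorPow hL _
  have hM : PicF.IsInvertible (RefHull.dual B) := K476.HomSh6.isInvertible_dual hBi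
  obtain ⟨eE⟩ := hE.iso
  have i10 : LocallyOfFinitePresentation ((𝟙 J) ^ m : J ⟶ J).left := by
    have h1 : ((m : ℤ) : k) ≠ 0 := by
      rw [Int.cast_natCast]
      exact Nat.cast_ne_zero.2 (by omega)
    have h2 := AbBC.etale_zpow J h1
    rw [zpow_natCast] at h2
    infer_instance
  obtain ⟨ret⟩ := K231.Cov.nonempty_retract (K231.Cov.isSplitMono_unitToPush k ((𝟙 J) ^ m : J ⟶ J).left J.hom)
    (VarietyB.TensCoh.HasBases.of_isFinLocFree hE.locFree)
  -- the transform of `B`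
  have hν : K732.Dual.cm φJ (K528.MumZero.mumCl J (mk B hBi)) = 𝟙 J ^ (m * r) := by
    rw [← K242.PosF.lam_pow hsd hL (m * r), ← mk_tensorPow hL (m * r)]
  obtain ⟨e0⟩ := nonempty_T_inv_of hsd.1 hP hPP hBi (K476.HomSh6.nonempty_tensor_dual hBi) (𝟙 J ^ (m * r)) hν 0
  have hw : (𝟙 J ^ r).left ≫ (𝟙 J ^ m).left = (𝟙 J ^ (m * r)).left := by
    rw [← Over.comp_left, K242.FMain.pow_comp_pow, mul_comm]
  have hq : Coh.IsQCoh ((Scheme.Modules.pullback (𝟙 J ^ m).left).obj E) :=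
    (PerfA.CohSerre.isCoh_of_isFinLocFree (PerfB.FlatPull.isFinLocFree_pullback (𝟙 J ^ m).left hE.locFree)).1
  obtain ⟨e1⟩ := nonempty_T_push hsd.1 hP hPP hm hq 0
  let F : J.left.Modules ⥤ J.left.Modules := TJ P 0 ⋙ Scheme.Modules.pullback (𝟙 J ^ m).left ⋙
    Scheme.Modules.pullback (𝟙 J ^ r).left
  let e2 : F.obj B ≅ ∐ fun _ : Fin (@Module.finrank k (Coh.HH J.left B 0) _ _
      (@Coh.moduleOver k _ J.left ⟨J.hom⟩ B 0)) => RefHull.dual B :=
    ((Scheme.Modules.pullbackComp _ _).app _) ≪≫ ((Scheme.Modules.pullbackCongr hw).app _) ≪≫ e0 ≪≫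
      K242.FMain.freeTens _ _
  let e3 : F.obj ((Scheme.Modules.pullback (𝟙 J ^ m).left).obj E) ≅
      ∐ fun _ : Fin v × Fin (@Module.finrank k (Coh.HH J.left B 0) _ _ (@Coh.moduleOver k _ J.left ⟨J.hom⟩ B 0)) =>
        RefHull.dual B :=
    F.mapIso eE ≪≫ PreservesCoproduct.iso F _ ≪≫ (Sigma.mapIso fun _ => e2) ≪≫ ASBun.K791.Tens.sigmaPow _
  have ρ := (ret.map (TJ P 0 ⋙ Scheme.Modules.pullback (𝟙 J ^ r).left)).trans
    (Retract.ofIso ((Scheme.Modules.pullback (𝟙 J ^ r).left).mapIso e1 ≪≫ e3))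
  obtain ⟨n, ⟨e4⟩⟩ := K242.Retr.exists_iso (k := k) (fun f => K703.Scalar.end_scalar hM f) ρ
  have hq0 : Coh.IsQCoh ((TJ P 0).obj E) :=
    CohqA.RelCoh.isQCoh_Rpush (pullback.snd J.hom J.hom) _ (PerfA.CohSerre.isCoh_of_isFinLocFree
      (Sga67.LocBasis.isFinLocFree_tensorMod (PerfB.FlatPull.isFinLocFree_pullback (pullback.fst J.hom J.hom) hE.locFree)
        (K232.FMInv.isFinLocFree_of_isInvertible hP))).1 0
  have hrank : FlatMod.IsFinLocFreeOfRank n ((TJ P 0).obj E) := K242.FMain.rank_of_iso hq0 hr hM e4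
  have h1 : ∀ i : ℕ, i ≠ 0 → IsZero ((TJ P i).obj E) := fun i hi =>
    K242.PosF.isZero_T hsd hJ.ample hP hPP hm hmr hE.locFree ret eE i hi
  have h2 := K242.RankF.rank_eq hsd hL hP hPP hE.locFree 0 h1 hrank
  subst h2
  exact ⟨e4⟩

end pos

section numbers

variable [IsAlgClosed k]

/-- `E ⊗ L` for a Verlinde type bundle `E`. -/
theorem verD_tensor (hJ : PPAV g J L) (hs : Sym J L) {r m v : ℕ} {E : J.left.Modules} (hE : VerD J L r m v E) :
    VerD J L r (m + r) v (CohB1.tensorMod E L) := by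
  have := hJ.proper
  have := hJ.gint
  obtain ⟨e⟩ := hE.iso
  obtain ⟨e1⟩ := K231.Mul.pullback_tensor_iso ((𝟙 J) ^ r : J ⟶ J).left (α := L) e
  obtain ⟨e2⟩ := K231.AvPic.pullback_eq_of_sym hJ r L hJ.inv hs
  have h3 : Nonempty (CohB1.tensorMod (CohB1.tensorPow L (r * m)) (CohB1.tensorPow L (r ^ 2)) ≅
      CohB1.tensorPow L (r * (m + r))) := by
    rw [← mk_eq_iff (Fdesc.LocGen.isInvertible_tensorMod (Fdesc.LocGen.isInvertible_tensorPow hJ.inv _)
      (Fdesc.LocGen.isInvertible_tensorPow hJ.inv _)) (Fdesc.LocGen.isInvertible_tensorPow hJ.inv _),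
      ← mk_mul_mk (Fdesc.LocGen.isInvertible_tensorPow hJ.inv _) (Fdesc.LocGen.isInvertible_tensorPow hJ.inv _),
      mk_tensorPow hJ.inv, mk_tensorPow hJ.inv, mk_tensorPow hJ.inv, ← pow_add]
    congr 1
    ring
  obtain ⟨e3⟩ := h3
  exact ⟨Sga67.LocBasis.isFinLocFree_tensorMod hE.locFree (K790.Isotyp.isFinLocFree_of_isInvertible hJ.inv), hE.pos,
    ⟨e1 ≪≫ Sigma.mapIso fun _ => ASBun.K791.Tens.tensMap (Iso.refl _) e2 ≪≫ e3⟩⟩

variable [CharZero k]

/-- `h^0(J, E ⊗ L) r^g = v (m + r)^g`. -/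
theorem h0_tensor (hJ : PPAV g J L) (hs : Sym J L) {r m v : ℕ} (hr : 1 ≤ r) {E : J.left.Modules}
    (hE : VerD J L r m v E) :
    @Module.finrank k (Coh.HH J.left (CohB1.tensorMod E L) 0) _ _
      (@Coh.moduleOver k _ J.left ⟨J.hom⟩ (CohB1.tensorMod E L) 0) * r ^ g = v * (m + r) ^ g :=
  K808.Verl.h0_of_verD hJ hr (by omega) (verD_tensor hJ hs hE)

/-- **The row `S16926` on the Jacobian**, from the numerical strange duality. -/
theorem row (hJ : PPAV g J L) (hs : Sym J L) [IsCommMonObj J]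
    (φJ : AgPol.DualMap J J) (hsd : Jac.IsSelfDual Scheme.fppfPrecoverage J φJ L)
    (P : (pullback J.hom J.hom).Modules) (hP : PicF.IsInvertible P) (hPP : AbDual.IsPoincareCl J J φJ (PicF.cl P))
    [HasInjectiveResolutions (pullback J.hom J.hom).Modules]
    {r m v₁ v₂ : ℕ} (hr : 1 ≤ r) (hm : 1 ≤ m) {E₁ E₂ : J.left.Modules} (h₁ : VerD J L r m v₁ E₁)
    (h₂ : VerD J L m r v₂ E₂)
    (h : @Module.finrank k (Coh.HH J.left (CohB1.tensorMod E₁ L) 0) _ _
        (@Coh.moduleOver k _ J.left ⟨J.hom⟩ (CohB1.tensorMod E₁ L) 0) =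
      @Module.finrank k (Coh.HH J.left (CohB1.tensorMod E₂ L) 0) _ _
        (@Coh.moduleOver k _ J.left ⟨J.hom⟩ (CohB1.tensorMod E₂ L) 0)) :
    Nonempty ((Scheme.Modules.pullback ((𝟙 J) ^ r : J ⟶ J).left).obj (RefHull.dual E₁) ≅
      (Scheme.Modules.pullback ((𝟙 J) ^ r : J ⟶ J).left).obj
        ((Coh.Rpush (pullback.snd J.hom J.hom) 0).obj
          (CohB1.tensorMod ((Scheme.Modules.pullback (pullback.fst J.hom J.hom)).obj E₂) P))) := by
  have i1 := hJ.proper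
  have i2 := hJ.smooth
  have i3 := hJ.gconn
  have i4 := hJ.gint
  have hint : IsIntegral J.left := GeometricallyIntegral.isIntegral_of_subsingleton J.hom
  have i6 := MulFin.flat_pow J r hr
  let _ : J.left.Over (Spec (CommRingCat.of k)) := ⟨J.hom⟩
  have i8 : IsProper (J.left ↘ Spec (CommRingCat.of k)) := inferInstanceAs (IsProper J.hom)
  have i9 : IsNoetherian J.left := VarietyA.TwistExist.isNoetherian k J.left
  obtain ⟨eE⟩ := h₁.iso
  obtain ⟨e1⟩ := K242.DualSum.nonempty_pull_dual ((𝟙 J) ^ r : J ⟶ J).left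
    (PerfA.CohSerre.isCoh_of_isFinLocFree h₁.locFree) _ v₁ eE
  obtain ⟨e2⟩ := exists_iso_pos hJ φJ hsd P hP hPP hr hm h₂
  have k1 := h0_tensor hJ hs hr h₁
  have k2 := h0_tensor hJ hs hm h₂
  have k3 := K808.Verl.h0_of_verD hJ hm hr h₂
  rw [← h] at k2
  have hrm : 0 < (m + r) ^ g := Nat.pow_pos (by omega)
  have hmg : 0 < m ^ g := Nat.pow_pos hm
  have key : v₁ = @Module.finrank k (Coh.HH J.left E₂ 0) _ _ (@Coh.moduleOver k _ J.left ⟨J.hom⟩ E₂ 0) := by
    generalize @Module.finrank k (Coh.HH J.left E₂ 0) _ _ (@Coh.moduleOver k _ J.left ⟨J.hom⟩ E₂ 0) = n at k3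
    generalize @Module.finrank k (Coh.HH J.left (CohB1.tensorMod E₁ L) 0) _ _
        (@Coh.moduleOver k _ J.left ⟨J.hom⟩ (CohB1.tensorMod E₁ L) 0) = H at k1 k2
    rw [Nat.add_comm r m] at k2
    apply Nat.eq_of_mul_eq_mul_right (Nat.mul_pos hmg hrm)
    calc v₁ * (m ^ g * (m + r) ^ g) = m ^ g * (v₁ * (m + r) ^ g) := by ring
      _ = m ^ g * (H * r ^ g) := by rw [k1]
      _ = r ^ g * (H * m ^ g) := by ring
      _ = r ^ g * (v₂ * (m + r) ^ g) := by rw [k2]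
      _ = (v₂ * r ^ g) * (m + r) ^ g := by ring
      _ = (n * m ^ g) * (m + r) ^ g := by rw [k3]
      _ = n * (m ^ g * (m + r) ^ g) := by ring
  rw [mul_comm m r] at e2
  rw [← key] at e2
  exact ⟨e1 ≪≫ e2.symm⟩

/-- `h^0(M, Θ^m ⊗ d^* L) = h^0(J, d_*(Θ^m) ⊗ L)`. -/
theorem finrank_push_tensor {M : Over (Spec (CommRingCat.of k))} (dm : M ⟶ J) (F : M.left.Modules)
    (hL : PicF.IsInvertible L) :
    @Module.finrank k (Coh.HH J.left (CohB1.tensorMod ((Scheme.Modules.pushforward dm.left).obj F) L) 0) _ _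
      (@Coh.moduleOver k _ J.left ⟨J.hom⟩ (CohB1.tensorMod ((Scheme.Modules.pushforward dm.left).obj F) L) 0) =
    @Module.finrank k (Coh.HH M.left (CohB1.tensorMod F ((Scheme.Modules.pullback dm.left).obj L)) 0) _ _
      (@Coh.moduleOver k _ M.left ⟨M.hom⟩ (CohB1.tensorMod F ((Scheme.Modules.pullback dm.left).obj L)) 0) := by
  rw [← F1.finrank_push dm]
  obtain ⟨e⟩ := F1.push_tensor dm F L hL
  let _ : J.left.Over (Spec (CommRingCat.of k)) := ⟨J.hom⟩
  exact CurvesC.DegIso.finrank_congr k e.symm 0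

/-- **The row `S16926`** from the structure theorem and the numerical strange duality
`h^0(M₁, Θ₁^m ⊗ d₁^* L) = h^0(M₂, Θ₂^r ⊗ d₂^* L)`. -/
theorem row_str (hJ : PPAV g J L) (hs : Sym J L) [IsCommMonObj J]
    (φJ : AgPol.DualMap J J) (hsd : Jac.IsSelfDual Scheme.fppfPrecoverage J φJ L)
    (P : (pullback J.hom J.hom).Modules) (hP : PicF.IsInvertible P) (hPP : AbDual.IsPoincareCl J J φJ (PicF.cl P))
    [HasInjectiveResolutions (pullback J.hom J.hom).Modules]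
    {r m : ℕ} (hr : 1 ≤ r) (hm : 1 ≤ m) {M₁ M₂ : Over (Spec (CommRingCat.of k))} {d₁ : M₁ ⟶ J} {d₂ : M₂ ⟶ J}
    {Θ₁ : M₁.left.Modules} {Θ₂ : M₂.left.Modules} (hΘ₁ : PicF.IsInvertible Θ₁) (hΘ₂ : PicF.IsInvertible Θ₂)
    (S₁ : Str r d₁ Θ₁ L) (S₂ : Str m d₂ Θ₂ L)
    (h : @Module.finrank k (Coh.HH M₁.left (CohB1.tensorMod (CohB1.tensorPow Θ₁ m)
          ((Scheme.Modules.pullback d₁.left).obj L)) 0) _ _
        (@Coh.moduleOver k _ M₁.left ⟨M₁.hom⟩ (CohB1.tensorMod (CohB1.tensorPow Θ₁ m)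
          ((Scheme.Modules.pullback d₁.left).obj L)) 0) =
      @Module.finrank k (Coh.HH M₂.left (CohB1.tensorMod (CohB1.tensorPow Θ₂ r)
          ((Scheme.Modules.pullback d₂.left).obj L)) 0) _ _
        (@Coh.moduleOver k _ M₂.left ⟨M₂.hom⟩ (CohB1.tensorMod (CohB1.tensorPow Θ₂ r)
          ((Scheme.Modules.pullback d₂.left).obj L)) 0)) :
    Nonempty ((Scheme.Modules.pullback ((𝟙 J) ^ r : J ⟶ J).left).obj
        (RefHull.dual ((Scheme.Modules.pushforward d₁.left).obj (CohB1.tensorPow Θ₁ m))) ≅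
      (Scheme.Modules.pullback ((𝟙 J) ^ r : J ⟶ J).left).obj
        ((Coh.Rpush (pullback.snd J.hom J.hom) 0).obj
        (CohB1.tensorMod ((Scheme.Modules.pullback (pullback.fst J.hom J.hom)).obj
          ((Scheme.Modules.pushforward d₂.left).obj (CohB1.tensorPow Θ₂ r))) P))) := by
  refine row hJ hs φJ hsd P hP hPP hr hm (F1.verD_of_str hJ hΘ₁ hr S₁ m) (F1.verD_of_str hJ hΘ₂ hm S₂ r) ?_
  rw [finrank_push_tensor d₁ _ hJ.inv, finrank_push_tensor d₂ _ hJ.inv, h]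

end numbers

end K429.SdRow
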