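import Groth.Agent.BunMod.K429.Val
import Groth.Agent.AbVar.K139.Kun0
import Groth.Agent.Ega2.TensGen
import Groth.Agent.VarietyB.TensCoh

/-!
# Values of sections of box products

`Z` with `p : Z ⟶ M₁`, `q : Z ⟶ M₂`, `Bx A B p q = p^* A ⊗ q^* B`.

* `prV v w`  : `a ⊗ b ↦ v a * w b`.
* `box`      : `H⁰(M₁, A) ⊗ H⁰(M₂, B) →ₗ[k] H⁰(Z, p^*A ⊗ q^*B)`.
* `exists_val_box` : the value of `box T` at `c` is `prV v w T`.
* `box_surjective` : Künneth, for `Z = M₁ × M₂`.
-/

set_option autoImplicit false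
universe u

open CategoryTheory CategoryTheory.Limits AlgebraicGeometry MonoidalCategory CartesianMonoidalCategory
open scoped TensorProduct

namespace K429.Val

open Groth.Agent Groth.Agent.Fdesc.LocGen

variable {k : Type u} [Field k]

section pr

variable {R H H' : Type*} [CommRing R] [Algebra k R] [AddCommGroup H] [Module k H] [AddCommGroup H'] [Module k H']

/-- `a ⊗ b ↦ v a * w b`. -/
noncomputable def prV (v : H →ₗ[k] R) (w : H' →ₗ[k] R) : H ⊗[k] H' →ₗ[k] R :=
  LinearMap.mul' k R ∘ₗ TensorProduct.map v w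

@[simp] theorem prV_tmul (v : H →ₗ[k] R) (w : H' →ₗ[k] R) (a : H) (b : H') : prV v w (a ⊗ₜ b) = v a * w b := rfl

end pr

variable {M₁ M₂ Z : Over (Spec (CommRingCat.of k))}

/-- `p^* A ⊗ q^* B`. -/
noncomputable abbrev Bx (A : M₁.left.Modules) (B : M₂.left.Modules) (p : Z ⟶ M₁) (q : Z ⟶ M₂) : Z.left.Modules :=
  CohB1.tensorMod ((Scheme.Modules.pullback p.left).obj A) ((Scheme.Modules.pullback q.left).obj B)

variable {A : M₁.left.Modules} {B : M₂.left.Modules}

/-- Scalars move through pulled back sections. -/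
theorem pullTop_smul_scal {M : Over (Spec (CommRingCat.of k))} (p : Z ⟶ M) {A : M.left.Modules} (c : k) (s : H0 M A) :
    pullTop p.left (toSec (c • s)) = scal Z c • pullTop p.left (toSec s) := by
  rw [toSec_smul, ← appTop_scal p c]
  exact pullSec_smul p.left (scal M c) (toSec s)

theorem pullTop_add {M : Over (Spec (CommRingCat.of k))} (p : Z ⟶ M) {A : M.left.Modules} (s t : H0 M A) :
    pullTop p.left (toSec (s + t)) = pullTop p.left (toSec s) + pullTop p.left (toSec t) := by
  rw [map_add]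
  exact pullSec_add p.left (toSec s) (toSec t)

theorem toSec_symm_add {M : Over (Spec (CommRingCat.of k))} {A : M.left.Modules} (s t : Γ(A, ⊤)) :
    (toSec.symm (s + t) : H0 M A) = toSec.symm s + toSec.symm t := map_add _ _ _

theorem toSec_symm_smul {M : Over (Spec (CommRingCat.of k))} {A : M.left.Modules} (c : k) (s : Γ(A, ⊤)) :
    (toSec.symm (scal M c • s) : H0 M A) = c • toSec.symm s := by
  apply toSec.injective
  rw [toSec_smul, AddEquiv.apply_symm_apply, AddEquiv.apply_symm_apply]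

/-- The product of sections. -/
noncomputable def box (A : M₁.left.Modules) (B : M₂.left.Modules) (p : Z ⟶ M₁) (q : Z ⟶ M₂) :
    H0 M₁ A ⊗[k] H0 M₂ B →ₗ[k] H0 Z (Bx A B p q) :=
  TensorProduct.lift (LinearMap.mk₂ k (fun a b => toSec.symm (tmul (pullTop p.left (toSec a)) (pullTop q.left (toSec b))))
    (fun a a' b => by rw [pullTop_add, add_tmul, toSec_symm_add])
    (fun c a b => by rw [pullTop_smul_scal, smul_tmul, toSec_symm_smul])
    (fun a b b' => by rw [pullTop_add, tmul_add, toSec_symm_add])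
    (fun c a b => by rw [pullTop_smul_scal, tmul_smul, toSec_symm_smul]))

theorem toSec_box (p : Z ⟶ M₁) (q : Z ⟶ M₂) (a : H0 M₁ A) (b : H0 M₂ B) :
    toSec (box A B p q (a ⊗ₜ b)) = tmul (pullTop p.left (toSec a)) (pullTop q.left (toSec b)) := by
  rw [box, TensorProduct.lift.tmul]
  exact toSec.apply_symm_apply _

variable {R : Type u} [CommRing R] [Algebra k R]

/-- The pull-back of a value along a morphism of schemes. -/
theorem IsVal.pull {c : SpA k R ⟶ Z} {p : Z ⟶ M₁} {v : H0 M₁ A →ₗ[k] R} (h : IsVal A (c ≫ p) v) :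
    ∃ e : Γ((Scheme.Modules.pullback c.left).obj ((Scheme.Modules.pullback p.left).obj A), ⊤), IsGen e ∧
      ∀ s, pullTop c.left (pullTop p.left (toSec s)) = fnR k (v s) • e := by
  obtain ⟨e, he, hv⟩ := h
  refine ⟨((Scheme.Modules.pullbackComp c.left p.left).inv.app A).app ⊤ e, he.app _, fun s => ?_⟩
  have h1 := K837.StPull.pullTop_comp c.left p.left (toSec s)
  refine h1.symm.trans ?_
  have h2 : pullTop (c.left ≫ p.left) (toSec s) = fnR k (v s) • e := hv s
  rw [h2]
  exact Scheme.Modules.Hom.app_smul _ _ _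

/-- **The value of a product.** -/
theorem exists_val_box (hA : PicF.IsInvertible A) (hB : PicF.IsInvertible B) (c : SpA k R ⟶ Z) (p : Z ⟶ M₁)
    (q : Z ⟶ M₂) {v : H0 M₁ A →ₗ[k] R} {w : H0 M₂ B →ₗ[k] R} (hv : IsVal A (c ≫ p) v) (hw : IsVal B (c ≫ q) w) :
    ∃ u : H0 Z (Bx A B p q) →ₗ[k] R, IsVal (Bx A B p q) c u ∧ ∀ t, u (box A B p q t) = prV v w t := by
  obtain ⟨e, he, hv⟩ := hv.pull
  obtain ⟨f, hf, hw⟩ := hw.pull
  have := Grpsch.PicGrp.isIso_pullTensor c.left (isInvertible_pullback p.left hA) (isInvertible_pullback q.left hB)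
  let P := Grpsch.PicGrp.pullTensor c.left ((Scheme.Modules.pullback p.left).obj A)
    ((Scheme.Modules.pullback q.left).obj B)
  have hg : IsGen ((inv P).app ⊤ (tmul e f)) := (he.tmul hf).app _
  obtain ⟨u, hu⟩ := exists_val_of_gen c hg
  refine ⟨u, ⟨_, hg, hu⟩, fun t => ?_⟩
  have key : ∀ (a : H0 M₁ A) (b : H0 M₂ B), u (box A B p q (a ⊗ₜ b)) = v a * w b := by
    intro a b
    apply (fnR_bijective (k := k) (A := R)).1
    apply hg.ext
    rw [← hu, toSec_box]
    have h1 : P.app ⊤ (pullTop c.left (tmul (pullTop p.left (toSec a)) (pullTop q.left (toSec b)))) =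
        tmul (pullTop c.left (pullTop p.left (toSec a))) (pullTop c.left (pullTop q.left (toSec b))) :=
      Grpsch.PicGrp.pullTensor_app c.left (U := ⊤) _ _
    have h2 : ∀ z, (inv P).app ⊤ (P.app ⊤ z) = z := fun z => congr(($(IsIso.hom_inv_id P)).app ⊤ z)
    rw [← h2 (pullTop c.left _), h1, hv, hw, smul_tmul, tmul_smul, smul_smul, map_mul]
    exact Scheme.Modules.Hom.app_smul _ _ _
  induction t with
  | zero => simp
  | tmul a b => rw [key, prV_tmul]
  | add x y hx hy => rw [map_add, map_add, map_add, hx, hy]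

/-- **Künneth.** -/
theorem box_surjective [IsProper M₁.hom] (hA : Coh.IsCoh A) (hB : VarietyB.TensCoh.HasBases B) :
    Function.Surjective (box (Z := M₁ ⊗ M₂) A B (fst M₁ M₂) (snd M₁ M₂)) := by
  intro t
  have H : IsPullback (fst M₁ M₂).left (snd M₁ M₂).left M₁.hom M₂.hom := by
    exact IsPullback.of_hasPullback M₁.hom M₂.hom
  obtain ⟨n, a, b, h⟩ := K139.Kun0.kun H hA hB (toSec t)
  refine ⟨∑ i, (toSec.symm (a i)) ⊗ₜ (toSec.symm (b i)), ?_⟩
  apply toSec.injective
  rw [h, map_sum, map_sum]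
  refine Finset.sum_congr rfl fun i _ => ?_
  rw [toSec_box, AddEquiv.apply_symm_apply, AddEquiv.apply_symm_apply]
  rfl

end K429.Val
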