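import Groth.Agent.BunMod.K429.Val
import Groth.Agent.AbSch.K449.CanSec
import Groth.Agent.Divis.IdealComap

/-!
# The value of the canonical section generates the inverse image of the ideal

* `IsIdealSec L I t`  : locally `t = a • l`, `l` a generator, `I = (a)`.
* `exists_idealSec`   : the canonical section of an inverse of `I`.
* `IsIdealSec.span`   : `(c^* I)(Spec R) = (value of t at c)`, `R` local.
-/

set_option autoImplicit false
universe u

open CategoryTheory CategoryTheory.Limits AlgebraicGeometry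

namespace K429.Val

open Groth.Agent Groth.Agent.Fdesc.LocGen Groth.Agent.Dix.IdealModCartier

/-- Locally `t = a • l`, `l` a generator of `L`, `I = (a)`. -/
def IsIdealSec {Z : Scheme.{u}} (L : Z.Modules) (I : Z.IdealSheafData) (t : Γ(L, ⊤)) : Prop :=
  ∀ z : Z, ∃ (W : Z.affineOpens) (l : Γ(L, W.1)) (a : Γ(Z, W.1)), z ∈ W.1 ∧ IsGen l ∧
    res L (le_top : W.1 ≤ ⊤) t = a • l ∧ I.ideal W = Ideal.span {a}

/-- The canonical section. -/
theorem exists_idealSec {Z : Scheme.{u}} {L : Z.Modules} {I : Z.IdealSheafData}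
    (h : ClSub.IsInverseOf L (ClSub.idealMod I)) : ∃ t : Γ(L, ⊤), IsIdealSec L I t := by
  have hI := isEffCartierIdeal_of_isInverseOf h
  have hL := (isInvertible_of_isInverseOf h).1
  obtain ⟨e⟩ := h
  refine ⟨sec (e.inv ≫ K449.CanSec.mulI L I) ⊤, fun x => ?_⟩
  obtain ⟨U, a, hxU, ha⟩ := exists_genOn hI x
  obtain ⟨V, l, hxV, hl⟩ := (isInvertible_iff L).mp hL x
  obtain ⟨W, hxW, hW⟩ := exists_affine_mem_le (U.1 ⊓ V) x ⟨hxU, hxV⟩
  have ha' := ha.res (hW.trans inf_le_left)
  have hl' := hl.res (hW.trans inf_le_right)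
  have h8 := (ha' W le_rfl).2
  rw [ores_refl] at h8
  obtain ⟨g, hg⟩ := exists_val_eq I W (a := ores (hW.trans inf_le_left) a) (by
    rw [h8]
    exact Ideal.mem_span_singleton_self _)
  have hgen : IsGen g := isGen_of_genOn (by rw [hg]; exact ha')
  have hτ : IsGen (sec e.inv W.1) := (isGen_one W.1).app e.inv
  obtain ⟨u, hu, hu'⟩ := (hl'.tmul hgen).exists_unit hτ
  have h1 : sec (e.inv ≫ K449.CanSec.mulI L I) W.1 =
      (u * ores (hW.trans inf_le_left) a) • res L (hW.trans inf_le_right) l := by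
    rw [sec_comp, hu', Scheme.Modules.Hom.app_smul, K449.CanSec.mulI_tmul, hg, mul_smul]
  refine ⟨W, res L (hW.trans inf_le_right) l, u * ores (hW.trans inf_le_left) a, hxW, hl', ?_, ?_⟩
  · rw [← h1]
    exact res_sec _ _
  · rw [h8]
    exact (Ideal.span_singleton_mul_left_unit hu _).symm

variable {k : Type u} [Field k] {Z : Over (Spec (CommRingCat.of k))} {R : Type u} [CommRing R] [Algebra k R]
  [IsLocalRing R]

instance {A : Type u} [CommRing A] [Algebra k A] : IsAffine (SpA k A).left :=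
  inferInstanceAs (IsAffine (Spec (CommRingCat.of A)))

/-- **The value of the canonical section generates the inverse image of the ideal.** -/
theorem IsIdealSec.span {L : Z.left.Modules} {I : Z.left.IdealSheafData} {t : H0 Z L}
    (ht : IsIdealSec L I (toSec t)) {c : SpA k R ⟶ Z} {u : H0 Z L →ₗ[k] R} (hu : IsVal L c u) :
    (I.comap c.left).ideal ⟨⊤, isAffineOpen_top (SpA k R).left⟩ = Ideal.span {fnR k (u t)} := by
  obtain ⟨e, he, hv⟩ := hu
  obtain ⟨W, l, a, hz, hl, hta, hI⟩ := ht (c.left (IsLocalRing.closedPoint R))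
  have hW : (⊤ : (SpA k R).left.Opens) ≤ c.left ⁻¹ᵁ W.1 := fun y _ =>
    (IsLocalRing.specializes_closedPoint (R := R) y).mem_open (c.left ⁻¹ᵁ W.1).2 hz
  have h1 := Divis.IdealComap.ideal_comap I c.left W ⟨⊤, isAffineOpen_top (SpA k R).left⟩ hW
  rw [h1, hI, Ideal.map_span, Set.image_singleton]
  -- the pulled back section
  have h2 : pullTop c.left (toSec t) = (c.left.appLE W.1 ⊤ hW a : Γ((SpA k R).left, ⊤)) •
      res _ hW (pullSec c.left l) := by
    have h3 : res ((Scheme.Modules.pullback c.left).obj L) (c.left.preimage_mono (le_top : W.1 ≤ ⊤))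
        (pullSec c.left (toSec t)) = (c.left.app W.1 a : Γ((SpA k R).left, c.left ⁻¹ᵁ W.1)) • pullSec c.left l := by
      rw [res_pullSec c.left le_top, hta, pullSec_smul]
    have h4 := congrArg (res ((Scheme.Modules.pullback c.left).obj L) hW) h3
    rw [res_res, res_smul] at h4
    have h5 : res ((Scheme.Modules.pullback c.left).obj L) (hW.trans (c.left.preimage_mono (le_top : W.1 ≤ ⊤)))
        (pullSec c.left (toSec t)) = pullTop c.left (toSec t) := res_refl _ _
    rw [h5] at h4
    rw [h4]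
    congr 1
  have hg := (hl.pullSec c.left).res hW
  rw [hv t] at h2
  obtain ⟨w, hw, hw'⟩ := hg.exists_unit he
  rw [hw', ← mul_smul] at h2
  have h6 := hg.ext h2
  show Ideal.span {(c.left.appLE W.1 ⊤ hW).hom a} = _
  have h7 : (c.left.appLE W.1 ⊤ hW).hom a = fnR k (u t) * w := h6.symm
  rw [h7]
  exact Ideal.span_singleton_mul_right_unit hw _

end K429.Val
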